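import Cfsg.Agent.PrimePowerOrders.Basic
import Cfsg.Agent.SelfCentNC.PSL
import Cfsg.Agent.Classical.Misc.SmallPSL
import Cfsg.Agent.Chars.Burnside

/-!
The linear fractional groups of restricted element orders.
-/

set_option autoImplicit false
set_option linter.unusedSectionVars false
set_option linter.style.haveILetI false

open Matrix
open scoped MatrixGroups

namespace Cfsg.Lib.PrimePowerOrders

open Cfsg.Lib.GLTwo

/-- `PSL(2)` over fields of equal cardinality. -/
theorem psl_congr {F : Type*} [Field F] [Fintype F] {K : Type*} [Field K] [Fintype K]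
    (h : Fintype.card F = Fintype.card K) :
    Nonempty (Matrix.ProjectiveSpecialLinearGroup (Fin 2) F ≃*
      Matrix.ProjectiveSpecialLinearGroup (Fin 2) K) := by
  let ρ := FiniteField.ringEquivOfCardEq (K := F) (K' := K) h
  let σ : Matrix.SpecialLinearGroup (Fin 2) F ≃* Matrix.SpecialLinearGroup (Fin 2) K :=
    { toFun := Matrix.SpecialLinearGroup.map ρ.toRingHom
      invFun := Matrix.SpecialLinearGroup.map ρ.symm.toRingHom
      left_inv := fun g => by ext i j; simp
      right_inv := fun g => by ext i j; simp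
      map_mul' := map_mul _ }
  refine ⟨QuotientGroup.congr _ _ σ ?_⟩
  ext g
  refine (Subgroup.mem_map_equiv (f := σ)).trans ?_
  rw [Subgroup.mem_center_iff, Subgroup.mem_center_iff]
  constructor
  · intro hg y
    obtain ⟨y, rfl⟩ := σ.surjective y
    simpa using congrArg σ (hg y)
  · intro hg y
    exact σ.injective (by simpa using hg (σ y))

theorem three_dvd_four_pow_sub (j : ℕ) : 3 ∣ 4 ^ j - 1 := by
  simpa using Nat.sub_dvd_pow_sub_pow 4 1 j

theorem four_pow_mod (j : ℕ) : 4 ^ j % 3 = 1 := by simp [Nat.pow_mod]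

variable {F : Type*} [Field F] [Fintype F]

theorem card_eq_seven (h : EP (Matrix.ProjectiveSpecialLinearGroup (Fin 2) F))
    (hns : ¬ Group.IsSolvable (Matrix.ProjectiveSpecialLinearGroup (Fin 2) F)) : Fintype.card F = 7 := by
  haveI : Fact (Nat.Prime 2) := ⟨Nat.prime_two⟩
  have hq := Fintype.one_lt_card (α := F)
  have h5 := h.not_five
  have hcard : Nat.gcd 2 (Fintype.card F - 1) * Nat.card (Matrix.ProjectiveSpecialLinearGroup (Fin 2) F) =
      Fintype.card F * (Fintype.card F ^ 2 - 1) := Cfsg.Lib.Classical.SmallPSL.card_psl rfl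
  have hnot : ∀ q, Fintype.card F = q → q ≠ 2 ∧ q ≠ 3 ∧ q ≠ 4 ∧ q ≠ 5 ∧ q ≠ 9 := by
    intro q hqq
    rw [hqq] at hcard
    refine ⟨?_, ?_, ?_, ?_, ?_⟩ <;> rintro rfl <;> norm_num at hcard
    · exact hns (Cfsg.Lib.Chars.burnside_isSolvable 2 3 Nat.prime_two Nat.prime_three _ ⟨1, 1, by norm_num; omega⟩)
    · exact hns (Cfsg.Lib.Chars.burnside_isSolvable 2 3 Nat.prime_two Nat.prime_three _ ⟨2, 1, by norm_num; omega⟩)
    · omega
    · omega
    · omega
  obtain ⟨n2, n3, n4, n5, n9⟩ := hnot _ rfl
  obtain ⟨p, -, f, hp, hf⟩ := FiniteField.card' F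
  obtain ⟨sm, hsm⟩ := exists_orderOf_sub_one (F := F)
  obtain ⟨sp, hsp⟩ := exists_orderOf_add_one (F := F)
  rcases Nat.even_or_odd (Fintype.card F) with he | ho
  · -- characteristic two
    exfalso
    have hp2 : p = 2 := by
      by_contra hne
      exact Nat.not_even_iff_odd.2 (hp.odd_of_ne_two hne).pow (hf ▸ he)
    subst hp2
    have hg : Nat.gcd 2 (Fintype.card F - 1) = 1 := by
      obtain ⟨k, hk⟩ := he
      exact (Nat.coprime_two_left (n := Fintype.card F - 1)).2 ⟨k - 1, by omega⟩
    rcases Nat.even_or_odd' (f : ℕ) with ⟨j, hj | hj⟩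
    · have h3 : orderOf (prj sm) = 3 := by
        refine h.odd_prime Nat.prime_three (by norm_num) ?_
        rw [orderOf_prj, hg, pow_one, hsm, hf, hj, pow_mul]
        exact three_dvd_four_pow_sub j
      rw [orderOf_prj, hg, pow_one, hsm] at h3
      omega
    · have h3 : orderOf (prj sp) = 3 := by
        refine h.odd_prime Nat.prime_three (by norm_num) ?_
        rw [orderOf_prj, hg, pow_one, hsp, hf, hj, pow_succ, pow_mul]
        have := four_pow_mod j
        rw [show (4 : ℕ) = 2 ^ 2 by norm_num] at this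
        omega
      rw [orderOf_prj, hg, pow_one, hsp] at h3
      omega
  · -- odd order
    have hp2 : p ≠ 2 := by
      rintro rfl
      exact Nat.not_odd_iff_even.2 ((even_iff_two_dvd.2 (dvd_refl 2)).pow_of_ne_zero f.pos.ne') (hf ▸ ho)
    have hg : Nat.gcd 2 (Fintype.card F - 1) = 2 := by
      obtain ⟨k, hk⟩ := ho
      exact Nat.gcd_eq_left ⟨k, by omega⟩
    obtain ⟨k, hk⟩ := Cfsg.Lib.SelfCentNC.psl_two_power ho fun y hy => h.isPGroup_centralizer (by rw [hy])
    have hprime : (Fintype.card F).Prime := by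
      rw [hf]
      exact (Cfsg.Lib.SelfCentNC.prime_or_nine hp hp2 f.pos.ne' (by rw [← hf]; exact hk)).resolve_right
        (by rw [← hf]; exact n9)
    have hd3 : ¬ 3 ∣ Fintype.card F := fun hd => n3 ((Nat.prime_dvd_prime_iff_eq Nat.prime_three hprime).1 hd).symm
    rcases Nat.even_or_odd' k with ⟨j, rfl | rfl⟩ <;> rcases hk with hk | hk
    · exfalso
      rcases j with _ | j
      · norm_num at hk; omega
      have h2 : 2 ^ (2 * (j + 1)) = 4 * 4 ^ j := by rw [pow_mul, pow_succ]; norm_num; ring
      have h3 : orderOf (prj sp) = 3 := by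
        refine h.odd_prime Nat.prime_three (by norm_num) ?_
        rw [orderOf_prj, hg, orderOf_pow' _ two_ne_zero, hsp, Nat.gcd_eq_right (by omega)]
        have := four_pow_mod j
        omega
      rw [orderOf_prj, hg, orderOf_pow' _ two_ne_zero, hsp, Nat.gcd_eq_right (by omega)] at h3
      omega
    · exfalso
      rw [pow_mul] at hk
      have := four_pow_mod j
      norm_num at hk
      omega
    · exfalso
      rw [pow_succ, pow_mul] at hk
      have := four_pow_mod j
      norm_num at hk
      omega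
    · rcases j with _ | j
      · norm_num at hk; omega
      have h2 : 2 ^ (2 * (j + 1) + 1) = 8 * 4 ^ j := by rw [pow_succ, pow_mul, pow_succ]; norm_num; ring
      have h3 : orderOf (prj sm) = 3 := by
        refine h.odd_prime Nat.prime_three (by norm_num) ?_
        rw [orderOf_prj, hg, orderOf_pow' _ two_ne_zero, hsm, Nat.gcd_eq_right (by omega)]
        have := four_pow_mod j
        omega
      rw [orderOf_prj, hg, orderOf_pow' _ two_ne_zero, hsm, Nat.gcd_eq_right (by omega)] at h3
      omega

theorem card_eq (hF : Fintype.card F = 7) : Nat.card (Matrix.ProjectiveSpecialLinearGroup (Fin 2) F) = 168 := by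
  have h := Cfsg.Lib.Classical.SmallPSL.card_psl (F := F) (q := 7) hF
  norm_num at h
  omega

end Cfsg.Lib.PrimePowerOrders
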