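import Cfsg.Agent.PrimePowerOrders.Global
import Cfsg.Agent.S0340
import Mathlib.GroupTheory.GroupAction.MultipleTransitivity

/-!
A strongly embedded Sylow normaliser of index a prime over the Sylow subgroup: a Zassenhaus group.
-/

set_option autoImplicit false
set_option linter.unusedSectionVars false
set_option linter.style.haveILetI false

namespace Cfsg.Lib.PrimePowerOrders

open Subgroup

universe u

variable {G : Type u} [Group G] [Finite G]

/-- the involutions in the coset through `g` -/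
abbrev CosetInv (M : Subgroup G) (g : G) : Type u := {v : G // orderOf v = 2 ∧ v⁻¹ * g ∈ M}

/-- the intersection with the conjugate by `u` -/
def meet (M : Subgroup G) (u : G) : Subgroup G := M ⊓ M.map (MulAut.conj u).toMonoidHom

theorem mem_meet {M : Subgroup G} {u d : G} : d ∈ meet M u ↔ d ∈ M ∧ u⁻¹ * d * u ∈ M := by
  rw [meet, mem_inf, conj_mem_map]

namespace Strong

variable {M S : Subgroup G} {q : ℕ} {x : G} (L : Strong M S q x)
include L

theorem card_S : ∃ k, Nat.card ↥S = 2 ^ k := by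
  haveI : Fact (Nat.Prime 2) := ⟨Nat.prime_two⟩
  exact IsPGroup.iff_card.1 L.two

theorem x_not_mem : x ∉ S := fun hx => by
  obtain ⟨k, hk⟩ := IsPGroup.iff_orderOf.1 L.two ⟨x, hx⟩
  rw [orderOf_mk, L.ord] at hk
  exact L.odd ((Nat.prime_dvd_prime_iff_eq L.prime Nat.prime_two).1 (L.prime.dvd_of_dvd_pow (dvd_of_eq hk)))

theorem index_S : (S.subgroupOf M).index = q := by
  have h1 := (S.subgroupOf M).card_mul_index
  rw [Nat.card_congr (subgroupOfEquivOfLe L.le).toEquiv, L.card] at h1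
  exact Nat.eq_of_mul_eq_mul_left Nat.card_pos h1

/-- odd subgroups have order one or the prime -/
theorem card_odd {D : Subgroup G} (hD : D ≤ M) (hodd : ¬ 2 ∣ Nat.card ↥D) : Nat.card ↥D ∣ q := by
  have h1 : Nat.card ↥D ∣ Nat.card ↥S * q := L.card ▸ Subgroup.card_dvd_of_le hD
  obtain ⟨k, hk⟩ := L.card_S
  rw [hk] at h1
  exact (Nat.Coprime.pow_right k ((Nat.prime_two.coprime_iff_not_dvd).2 hodd).symm).dvd_of_dvd_mul_left h1

/-- the conjugate of an element of order the prime inside `M` by an element of `M` is not its inverse -/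
theorem not_inverted {y m : G} (hy : y ∈ M) (hyo : orderOf y = q) (hm : m ∈ M) (e : m * y * m⁻¹ = y⁻¹) : False := by
  haveI hn : (S.subgroupOf M).Normal := ⟨fun v hv g => L.norm g g.2 v hv⟩
  haveI := Fact.mk L.prime
  have hcard : Nat.card (↥M ⧸ S.subgroupOf M) = q := L.index_S
  haveI := isCyclic_of_prime_card hcard
  set m' : ↥M := ⟨m, hm⟩
  set y' : ↥M := ⟨y, hy⟩
  have hc : Commute (QuotientGroup.mk' (S.subgroupOf M) m') (QuotientGroup.mk' (S.subgroupOf M) y') := by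
    letI : CommGroup (↥M ⧸ S.subgroupOf M) := IsCyclic.commGroup
    exact mul_comm _ _
  have h1 : QuotientGroup.mk' (S.subgroupOf M) (m' * y' * m'⁻¹ * y'⁻¹) = 1 := by
    rw [map_mul, map_mul, map_mul, map_inv, map_inv, hc.eq, mul_inv_cancel_right, mul_inv_cancel]
  have h2 : m * y * m⁻¹ * y⁻¹ ∈ S := (QuotientGroup.eq_one_iff (m' * y' * m'⁻¹ * y'⁻¹)).1 h1
  rw [e] at h2
  obtain ⟨k, hk⟩ := IsPGroup.iff_orderOf.1 L.two ⟨_, h2⟩
  rw [orderOf_mk] at hk
  have h3 : orderOf (y⁻¹ * y⁻¹) ∣ q := orderOf_dvd_of_pow_eq_one (by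
    rw [← pow_two, ← pow_mul, mul_comm, pow_mul, inv_pow, ← hyo, pow_orderOf_eq_one, inv_one, one_pow])
  have h4 : orderOf (y⁻¹ * y⁻¹) = 1 := Nat.eq_one_of_dvd_coprimes (Nat.Coprime.pow_right k
    ((L.prime.coprime_iff_not_dvd).2 fun hd => L.odd ((Nat.prime_dvd_prime_iff_eq L.prime Nat.prime_two).1 hd)))
    h3 (hk ▸ dvd_rfl)
  have h5 : y ^ 2 = 1 := by
    rw [orderOf_eq_one_iff, ← pow_two, inv_pow, inv_eq_one] at h4
    exact h4
  exact L.odd ((Nat.prime_dvd_prime_iff_eq L.prime Nat.prime_two).1 (hyo ▸ orderOf_dvd_of_pow_eq_one h5))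

variable (h : EP G)
include h

theorem index_cent {z : G} (hz : orderOf z = 2) (hzM : z ∈ M) : centralizer ({z} : Set G) = S := by
  refine le_antisymm (fun g hg => ?_) fun s hs => mem_centralizer_singleton_iff.2 ((L.inv z hz hzM).2 s hs).symm.eq
  have hgM : g ∈ M := L.cent z g hz hzM (mem_centralizer_singleton_iff.1 hg)
  haveI hn : (S.subgroupOf M).Normal := ⟨fun v hv g => L.norm g g.2 v hv⟩
  by_contra hgS
  haveI : Fact (Nat.Prime 2) := ⟨Nat.prime_two⟩
  have hp := h.isPGroup_centralizer (p := 2) (x := z) (by rw [hz])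
  obtain ⟨k, hk⟩ := IsPGroup.iff_orderOf.1 hp ⟨g, hg⟩
  rw [orderOf_mk] at hk
  have h1 : orderOf (QuotientGroup.mk' (S.subgroupOf M) ⟨g, hgM⟩) = 1 :=
    Nat.eq_one_of_dvd_coprimes (Nat.Coprime.pow_right k
      ((L.prime.coprime_iff_not_dvd).2 fun hd => L.odd ((Nat.prime_dvd_prime_iff_eq L.prime Nat.prime_two).1 hd)))
      (_root_.orderOf_dvd_natCard _ |>.trans (dvd_of_eq L.index_S))
      (hk ▸ (orderOf_map_dvd _ _).trans (by rw [← orderOf_coe (⟨g, hgM⟩ : ↥M)]))
  exact hgS ((QuotientGroup.eq_one_iff (⟨g, hgM⟩ : ↥M)).1 (orderOf_eq_one_iff.1 h1))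

/-- The number of involutions in each nontrivial coset is the prime. -/
theorem exists_inverter (g : G) (hg : g ∉ M) :
    ∃ u, orderOf u = 2 ∧ u⁻¹ * g ∈ M ∧ u ∉ M ∧ Nat.card ↥(meet M u) = q ∧
      ∀ d ∈ meet M u, u * d * u⁻¹ = d⁻¹ := by
  classical
  haveI : Fact (Nat.Prime 2) := ⟨Nat.prime_two⟩
  obtain ⟨z, hzS, hz, -⟩ := exists_central L.two L.ne
  have hzM := L.le hzS
  have hC := L.index_cent h hz hzM
  -- all involutions
  have hI : Nat.card {v : G // orderOf v = 2} = S.index := by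
    have hf : ∀ a b : G, a⁻¹ * b ∈ S → a * z * a⁻¹ = b * z * b⁻¹ := fun a b hab => by
      rw [← hC] at hab
      have e := mem_centralizer_singleton_iff.1 hab
      rw [show b * z * b⁻¹ = a * ((a⁻¹ * b) * z) * b⁻¹ by group, e]
      group
    let f : G ⧸ S → {v : G // orderOf v = 2} := Quotient.lift
      (fun a => ⟨a * z * a⁻¹, by rw [← MulAut.conj_apply, MulEquiv.orderOf_eq, hz]⟩)
      (fun a b hab => Subtype.ext (hf a b (QuotientGroup.leftRel_apply.1 hab)))
    refine (Nat.card_congr (Equiv.ofBijective f ⟨?_, ?_⟩)).symm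
    · intro a b
      induction a using Quotient.inductionOn with | _ a => ?_
      induction b using Quotient.inductionOn with | _ b => ?_
      intro e
      have e' : a * z * a⁻¹ = b * z * b⁻¹ := congrArg Subtype.val e
      refine QuotientGroup.eq.2 (hC ▸ mem_centralizer_singleton_iff.2 ?_)
      rw [show a⁻¹ * b * z = a⁻¹ * (b * z * b⁻¹) * b by group, ← e']
      group
    · rintro ⟨v, hv⟩
      obtain ⟨c, hc⟩ := isConj_iff.1 (L.one_class z v hz hv)
      exact ⟨QuotientGroup.mk c, Subtype.ext hc⟩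
  have hS : S.index = M.index * q := by
    rw [← relIndex_mul_index L.le, show S.relIndex M = q from L.index_S, mul_comm]
  -- the bound for each coset
  have hin : ∀ {u : G}, orderOf u = 2 → u * u = 1 := fun hu => by rw [← pow_two, ← hu, pow_orderOf_eq_one]
  have hD : ∀ u : G, u ∉ M → Nat.card ↥(meet M u) ∣ q := fun u hu => by
    refine L.card_odd inf_le_left fun hd => ?_
    obtain ⟨d, hd⟩ := exists_prime_orderOf_dvd_card' (G := ↥(meet M u)) 2 hd
    obtain ⟨hdM, hdu⟩ := mem_meet.1 d.2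
    exact L.se u hu d (by rw [orderOf_coe, hd]) hdM hdu
  have hmem : ∀ {u v : G}, orderOf u = 2 → orderOf v = 2 → u⁻¹ * v ∈ M → u * v ∈ meet M u := by
    intro u v hu hv huv
    have hui : u⁻¹ = u := inv_eq_of_mul_eq_one_right (hin hu)
    rw [hui] at huv
    refine mem_meet.2 ⟨huv, ?_⟩
    have := inv_mem huv
    rw [mul_inv_rev, inv_eq_of_mul_eq_one_right (hin hv), hui] at this
    rwa [hui, ← mul_assoc, hin hu, one_mul]
  have hle : ∀ g : G, Nat.card (CosetInv M g) ≤ q := by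
    intro g
    rcases isEmpty_or_nonempty (CosetInv M g) with he | ⟨⟨u, hu, hug⟩⟩
    · rw [Nat.card_eq_zero.2 (Or.inl he)]; exact Nat.zero_le q
    by_cases huM : u ∈ M
    · let f : CosetInv M g → ↥M ⧸ S.subgroupOf M → Prop := fun v c => ∃ m : ↥M, (m : ↥M ⧸ S.subgroupOf M) = c ∧
        (v : G) = m * z * (m : G)⁻¹
      have hex : ∀ v : CosetInv M g, ∃ c, f v c := fun v => by
        have hvM : (v : G) ∈ M := by
          have := M.mul_mem (M.mul_mem huM hug) (inv_mem v.2.2)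
          simpa [mul_assoc] using this
        obtain ⟨c, hc⟩ := isConj_iff.1 (L.one_class z v hz v.2.1)
        have hcM : c ∈ M := by
          by_contra hcM
          exact L.se c hcM v v.2.1 hvM (by rw [← hc]; simpa [mul_assoc] using hzM)
        exact ⟨_, ⟨c, hcM⟩, rfl, hc.symm⟩
      choose φ hφ using hex
      refine (Nat.card_le_card_of_injective φ fun v w e => ?_).trans (le_of_eq L.index_S)
      obtain ⟨m, hm, hv⟩ := hφ v
      obtain ⟨m', hm', hw⟩ := hφ w
      refine Subtype.ext ?_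
      have h1 : (m⁻¹ * m' : ↥M) ∈ S.subgroupOf M := QuotientGroup.eq.1 (hm.trans (e.trans hm'.symm))
      have h2 : (m : G)⁻¹ * m' ∈ centralizer ({z} : Set G) := hC.ge h1
      rw [hv, hw, show (m' : G) * z * (m' : G)⁻¹ = m * (((m : G)⁻¹ * m') * z) * (m' : G)⁻¹ by group,
        mem_centralizer_singleton_iff.1 h2]
      group
    · refine le_trans (Nat.card_le_card_of_injective
        (fun v : CosetInv M g => (⟨u * v, hmem hu v.2.1 ?_⟩ : ↥(meet M u))) fun v w e => ?_)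
        (Nat.le_of_dvd L.prime.pos (hD u huM))
      · simpa [mul_assoc] using M.mul_mem hug (inv_mem v.2.2)
      · exact Subtype.ext (mul_left_cancel (congrArg Subtype.val e))
  -- the count
  have hsum : ∀ c : G ⧸ M, Nat.card (CosetInv M c.out) = q := by
    haveI := Fintype.ofFinite (G ⧸ M)
    have e : Nat.card {v : G // orderOf v = 2} = ∑ c : G ⧸ M, Nat.card (CosetInv M c.out) := by
      rw [← Nat.card_sigma]
      refine Nat.card_congr
        { toFun := fun v => ⟨QuotientGroup.mk v.1, v.1, v.2, QuotientGroup.eq.1 (QuotientGroup.out_eq' _).symm⟩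
          invFun := fun p => ⟨p.2.1, p.2.2.1⟩
          left_inv := fun v => rfl
          right_inv := ?_ }
      rintro ⟨c, v, hv, hvc⟩
      obtain rfl : QuotientGroup.mk v = c := (QuotientGroup.eq.2 hvc).trans (QuotientGroup.out_eq' c)
      rfl
    intro c
    by_contra hc
    have hlt : ∑ c : G ⧸ M, Nat.card (CosetInv M c.out) < ∑ _c : G ⧸ M, q :=
      Finset.sum_lt_sum (fun c _ => hle _) ⟨c, Finset.mem_univ c, lt_of_le_of_ne (hle _) hc⟩
    rw [← e, hI, hS, Finset.sum_const, Finset.card_univ, smul_eq_mul, ← Nat.card_eq_fintype_card] at hlt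
    exact hlt.ne rfl
  set g₀ := (QuotientGroup.mk g : G ⧸ M).out
  have hg₀ : g₀⁻¹ * g ∈ M := QuotientGroup.eq.1 (QuotientGroup.out_eq' _)
  have hcg : Nat.card (CosetInv M g₀) = q := hsum _
  obtain ⟨⟨u, hu, hug⟩⟩ : Nonempty (CosetInv M g₀) :=
    (Nat.card_pos_iff.1 (hcg.symm ▸ L.prime.pos)).1
  have hug' : u⁻¹ * g ∈ M := by simpa [mul_assoc] using M.mul_mem hug hg₀
  have huM : u ∉ M := fun k => hg (by simpa using M.mul_mem k hug')
  let f : CosetInv M g₀ → ↥(meet M u) := fun v => ⟨u * v, hmem hu v.2.1 (by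
    simpa [mul_assoc] using M.mul_mem hug (inv_mem v.2.2))⟩
  have hf : Function.Injective f := fun v w e => Subtype.ext (mul_left_cancel (congrArg Subtype.val e))
  have hcardD : Nat.card ↥(meet M u) = q := le_antisymm (Nat.le_of_dvd L.prime.pos (hD u huM))
    (hcg ▸ Nat.card_le_card_of_injective f hf)
  refine ⟨u, hu, hug', huM, hcardD, fun d hd => ?_⟩
  obtain ⟨v, hv⟩ := (hf.bijective_of_nat_card_le (by rw [hcardD, hcg])).2 ⟨d, hd⟩
  have e : d = u * v := (congrArg Subtype.val hv).symm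
  rw [e, mul_inv_rev, inv_eq_of_mul_eq_one_right (hin hu), inv_eq_of_mul_eq_one_right (hin v.2.1),
    ← mul_assoc u u, hin hu, one_mul]

theorem centralizer_eq {y : G} (hy : y ∈ M) (hyo : orderOf y = q) : centralizer ({y} : Set G) = zpowers y := by
  haveI := Fact.mk L.prime
  have hle : zpowers y ≤ centralizer ({y} : Set G) := zpowers_le.2 (mem_centralizer_singleton_iff.2 rfl)
  have hCM : centralizer ({y} : Set G) ≤ M := by
    intro p hp
    by_contra hpM
    have hpy : p⁻¹ * y * p = y := by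
      rw [mul_assoc, ← mem_centralizer_singleton_iff.1 hp, inv_mul_cancel_left]
    obtain ⟨u, hu, hug, -, -, hinv⟩ := L.exists_inverter h p hpM
    have hyD : y ∈ meet M u := mem_meet.2 ⟨hy, by
      have : (u⁻¹ * p) * y * (u⁻¹ * p)⁻¹ ∈ M := M.mul_mem (M.mul_mem hug hy) (inv_mem hug)
      rwa [show (u⁻¹ * p) * y * (u⁻¹ * p)⁻¹ = u⁻¹ * (p * y * p⁻¹) * u by group,
        mul_inv_eq_iff_eq_mul.2 (mem_centralizer_singleton_iff.1 hp)] at this⟩
    refine L.not_inverted hy hyo (inv_mem hug) ?_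
    rw [show (u⁻¹ * p)⁻¹ * y * (u⁻¹ * p)⁻¹⁻¹ = p⁻¹ * (u * y * u⁻¹) * p by group, hinv y hyD]
    rw [show p⁻¹ * y⁻¹ * p = (p⁻¹ * y * p)⁻¹ by group, hpy]
  refine (eq_of_le_of_card_ge hle ?_).symm
  obtain ⟨a, ha⟩ := IsPGroup.iff_card.1 (h.isPGroup_centralizer (p := q) (x := y) (by rw [hyo]))
  rw [Nat.card_zpowers, hyo, ha]
  rcases a with _ | _ | a
  · rw [pow_zero]; exact L.prime.one_le
  · rw [pow_one]
  · exfalso
    have hd : q ^ (a + 2) ∣ Nat.card ↥S * q := L.card ▸ ha ▸ Subgroup.card_dvd_of_le hCM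
    rw [pow_succ] at hd
    have h1 := Nat.dvd_of_mul_dvd_mul_right L.prime.pos hd
    obtain ⟨k, hk⟩ := L.card_S
    rw [hk] at h1
    exact L.odd ((Nat.prime_dvd_prime_iff_eq L.prime Nat.prime_two).1
      (L.prime.dvd_of_dvd_pow ((dvd_pow_self q (Nat.succ_ne_zero a)).trans h1)))

/-- a nontrivial element of `M` fixing another point -/
theorem fixing {y g : G} (hy : y ∈ M) (hy1 : y ≠ 1) (hg : g ∉ M) (hyg : g⁻¹ * y * g ∈ M) :
    orderOf y = q ∧ ∃ u, orderOf u = 2 ∧ u⁻¹ * g ∈ M ∧ u * y * u⁻¹ = y⁻¹ := by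
  obtain ⟨u, hu, hug, -, hcard, hinv⟩ := L.exists_inverter h g hg
  have hyD : y ∈ meet M u := mem_meet.2 ⟨hy, by
    simpa [mul_assoc] using M.mul_mem (M.mul_mem hug hyg) (inv_mem hug)⟩
  refine ⟨?_, u, hu, hug, hinv y hyD⟩
  have hd : orderOf y ∣ q := by
    rw [← hcard, ← orderOf_mk y hyD]
    exact orderOf_dvd_natCard _
  exact ((Nat.dvd_prime L.prime).1 hd).resolve_left fun e => hy1 (orderOf_eq_one_iff.1 e)

/-- at most one further fixed point -/
theorem fixing_unique {y g g' : G} (hy : y ∈ M) (hy1 : y ≠ 1) (hg : g ∉ M) (hyg : g⁻¹ * y * g ∈ M)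
    (hg' : g' ∉ M) (hyg' : g'⁻¹ * y * g' ∈ M) : g⁻¹ * g' ∈ M := by
  obtain ⟨hyo, u, hu, hug, hi⟩ := L.fixing h hy hy1 hg hyg
  obtain ⟨-, u', hu', hug', hi'⟩ := L.fixing h hy hy1 hg' hyg'
  have hc : u⁻¹ * u' ∈ centralizer ({y} : Set G) := by
    refine mem_centralizer_singleton_iff.2 ?_
    have e : u' * y * u'⁻¹ = u * y * u⁻¹ := hi'.trans hi.symm
    rw [show u⁻¹ * u' * y = u⁻¹ * (u' * y * u'⁻¹) * u' by group, e]
    group
  rw [L.centralizer_eq h hy hyo] at hc
  simpa [mul_assoc] using M.mul_mem (M.mul_mem (inv_mem hug) ((zpowers_le.2 hy) hc)) hug'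

/-- `M` is transitive on the other points -/
theorem transitive {g g' : G} (hg : g ∉ M) (hg' : g' ∉ M) : ∃ m ∈ M, (m * g)⁻¹ * g' ∈ M := by
  haveI := Fact.mk L.prime
  have key : ∀ g : G, g ∉ M → ∃ m ∈ M, m * g ∉ M ∧ (m * g)⁻¹ * x * (m * g) ∈ M := by
    intro g hg
    obtain ⟨u, hu, hug, -, hcard, -⟩ := L.exists_inverter h g hg
    have hfac : (Nat.card ↥M).factorization q = 1 := by
      obtain ⟨k, hk⟩ := L.card_S
      rw [L.card, hk, Nat.factorization_mul (pow_ne_zero k two_ne_zero) L.prime.ne_zero, Finsupp.add_apply,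
        Nat.factorization_pow, Finsupp.smul_apply, Nat.Prime.factorization_self L.prime,
        Nat.factorization_eq_zero_of_not_dvd fun hd => L.odd ((Nat.prime_dvd_prime_iff_eq L.prime Nat.prime_two).1 hd)]
      simp
    let P₁ : Sylow q ↥M := Sylow.ofCard ((zpowers x).subgroupOf M) (by
      rw [Nat.card_congr (subgroupOfEquivOfLe (zpowers_le.2 L.memx)).toEquiv, Nat.card_zpowers, L.ord, hfac, pow_one])
    let P₂ : Sylow q ↥M := Sylow.ofCard ((meet M u).subgroupOf M) (by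
      rw [Nat.card_congr (subgroupOfEquivOfLe (show meet M u ≤ M from inf_le_left)).toEquiv, hcard, hfac, pow_one])
    obtain ⟨⟨m, hm⟩, e⟩ := MulAction.exists_smul_eq ↥M P₂ P₁
    refine ⟨m, hm, fun hmg => hg (by simpa using M.mul_mem (inv_mem hm) hmg), ?_⟩
    have hx : (⟨x, L.memx⟩ : ↥M) ∈ (P₁ : Subgroup ↥M) := mem_zpowers x
    rw [← e, Sylow.coe_subgroup_smul] at hx
    obtain ⟨⟨d, hdM⟩, hd, ed⟩ := hx
    have ed' : m * d * m⁻¹ = x := congrArg Subtype.val ed
    have hd' : u⁻¹ * d * u ∈ M := (mem_meet.1 hd).2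
    rw [← ed', show (m * g)⁻¹ * (m * d * m⁻¹) * (m * g) = (u⁻¹ * g)⁻¹ * (u⁻¹ * d * u) * (u⁻¹ * g) by group]
    exact M.mul_mem (M.mul_mem (inv_mem hug) hd') hug
  obtain ⟨m₁, hm₁, hn₁, hf₁⟩ := key g hg
  obtain ⟨m₂, hm₂, hn₂, hf₂⟩ := key g' hg'
  have hx1 : x ≠ 1 := fun e => L.x_not_mem (e ▸ S.one_mem)
  refine ⟨m₂⁻¹ * m₁, M.mul_mem (inv_mem hm₂) hm₁, ?_⟩
  have := L.fixing_unique h L.memx hx1 hn₁ hf₁ hn₂ hf₂
  simpa [mul_assoc] using this

variable [IsSimpleGroup G]

/-- The group is a linear fractional group. -/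
theorem exists_psl (hne : ¬ 5 ∣ Nat.card G) :
    ∃ (F : Type) (_ : Field F) (_ : Fintype F), Nonempty (G ≃* Matrix.ProjectiveSpecialLinearGroup (Fin 2) F) := by
  classical
  obtain ⟨g₀, -, hg₀⟩ : ∃ g : G, g ∈ (⊤ : Subgroup G) ∧ g ∉ M :=
    SetLike.exists_of_lt (lt_top_iff_ne_top.2 L.proper)
  set o : G ⧸ M := QuotientGroup.mk 1 with ho
  have hstab : ∀ g : G, (g • o = o ↔ g ∈ M) := fun g => by
    rw [ho, MulAction.Quotient.smul_mk, smul_eq_mul, mul_one, QuotientGroup.eq, mul_one, inv_mem_iff]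
  have hstab' : ∀ g a : G, (g • (QuotientGroup.mk a : G ⧸ M) = QuotientGroup.mk a ↔ a⁻¹ * g * a ∈ M) := fun g a => by
    rw [MulAction.Quotient.smul_mk, smul_eq_mul, QuotientGroup.eq, ← inv_mem_iff]
    group
  have htrans : ∀ a : G ⧸ M, ∃ g : G, g • o = a := fun a => MulAction.exists_smul_eq G o a
  have hfaith : FaithfulSMul G (G ⧸ M) := by
    refine ⟨fun {a b} hab => ?_⟩
    rcases IsSimpleGroup.eq_bot_or_eq_top_of_normal (MulAction.toPermHom G (G ⧸ M)).ker inferInstance with e | e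
    · exact (MonoidHom.ker_eq_bot_iff _).1 e (Equiv.ext hab)
    · refine absurd ((hstab g₀).1 ?_) hg₀
      have h1 : (MulAction.toPermHom G (G ⧸ M)) g₀ = 1 := e.ge (mem_top g₀)
      exact congrArg (fun p : Equiv.Perm (G ⧸ M) => p o) h1
  -- doubly transitive
  have h2 : MulAction.IsMultiplyPretransitive G (G ⧸ M) 2 := by
    rw [MulAction.is_two_pretransitive_iff]
    intro a b c d hab hcd
    obtain ⟨g, rfl⟩ := htrans a
    obtain ⟨g', rfl⟩ := htrans c
    induction b using Quotient.inductionOn with | _ b => ?_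
    induction d using Quotient.inductionOn with | _ d => ?_
    have hb : g⁻¹ * b ∉ M := fun k => hab (by
      rw [ho, MulAction.Quotient.smul_mk, smul_eq_mul, mul_one]
      exact QuotientGroup.eq.2 k)
    have hd : g'⁻¹ * d ∉ M := fun k => hcd (by
      rw [ho, MulAction.Quotient.smul_mk, smul_eq_mul, mul_one]
      exact QuotientGroup.eq.2 k)
    obtain ⟨m, hm, hmm⟩ := L.transitive h hb hd
    refine ⟨g' * m * g⁻¹, ?_, ?_⟩
    · rw [← mul_smul, inv_mul_cancel_right, mul_smul, (hstab m).2 hm]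
    · show (g' * m * g⁻¹) • (QuotientGroup.mk b : G ⧸ M) = QuotientGroup.mk d
      rw [MulAction.Quotient.smul_mk, smul_eq_mul, QuotientGroup.eq]
      simpa [mul_assoc] using hmm
  have h3 : ∀ g : G, ∀ a b c : G ⧸ M, a ≠ b → b ≠ c → a ≠ c → g • a = a → g • b = b → g • c = c → g = 1 := by
    intro g a b c hab hbc hac ga gb gc
    by_contra hg1
    obtain ⟨k, rfl⟩ := htrans a
    induction b using Quotient.inductionOn with | _ b => ?_
    induction c using Quotient.inductionOn with | _ c => ?_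
    set g' := k⁻¹ * g * k
    have hg'M : g' ∈ M := (hstab g').1 (by
      simp only [g']
      rw [mul_smul, mul_smul, ga, inv_smul_smul])
    have hg'1 : g' ≠ 1 := fun e => hg1 (by
      have : g = k * g' * k⁻¹ := by simp only [g']; group
      rw [this, e, mul_one, mul_inv_cancel])
    have hmv : ∀ e : G, k • o ≠ (QuotientGroup.mk e : G ⧸ M) → g • (QuotientGroup.mk e : G ⧸ M) = QuotientGroup.mk e →
        k⁻¹ * e ∉ M ∧ (k⁻¹ * e)⁻¹ * g' * (k⁻¹ * e) ∈ M := fun e he hge => by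
      refine ⟨fun hk => he ?_, ?_⟩
      · rw [ho, MulAction.Quotient.smul_mk, smul_eq_mul, mul_one]
        exact QuotientGroup.eq.2 hk
      · simpa [g', mul_assoc] using (hstab' g e).1 hge
    obtain ⟨hb1, hb2⟩ := hmv b hab gb
    obtain ⟨hc1, hc2⟩ := hmv c hac gc
    refine hbc (QuotientGroup.eq.2 ?_)
    simpa [mul_assoc] using L.fixing_unique h hg'M hg'1 hb1 hb2 hc1 hc2
  have hx1 : x ≠ 1 := fun e => L.x_not_mem (e ▸ S.one_mem)
  obtain ⟨u, hu, hug, huM, hcard, -⟩ := L.exists_inverter h g₀ hg₀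
  haveI : Nontrivial ↥(meet M u) := Finite.one_lt_card_iff_nontrivial.1 (hcard ▸ L.prime.one_lt)
  obtain ⟨⟨d, hd⟩, hd1⟩ := exists_ne (1 : ↥(meet M u))
  have h4 : ∃ g : G, g ≠ 1 ∧ ∃ a b : G ⧸ M, a ≠ b ∧ g • a = a ∧ g • b = b := by
    obtain ⟨hdM, hdu⟩ := mem_meet.1 hd
    refine ⟨d, fun e => hd1 (Subtype.ext e), o, QuotientGroup.mk u, fun e => huM ?_, (hstab d).2 hdM,
      (hstab' d u).2 hdu⟩
    rw [ho, QuotientGroup.eq, inv_one, one_mul] at e
    exact e
  have h5 : ∀ N : Subgroup G, N.Normal → MulAction.IsPretransitive N (G ⧸ M) →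
      ∃ a : G ⧸ M, MulAction.stabilizer N a ≠ ⊥ := by
    intro N hN hNt
    have hNtop : N = ⊤ := by
      refine (IsSimpleGroup.eq_bot_or_eq_top_of_normal N hN).resolve_left fun e => ?_
      obtain ⟨n, hn⟩ := hNt.exists_smul_eq o (QuotientGroup.mk g₀)
      have hn1 : (n : G) = 1 := mem_bot.1 (e ▸ n.2)
      have hn' : (n : G) • o = QuotientGroup.mk g₀ := hn
      rw [hn1, one_smul, ho, QuotientGroup.eq, inv_one, one_mul] at hn'
      exact hg₀ hn'
    refine ⟨o, fun e => hx1 ?_⟩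
    have h1 : (⟨x, hNtop ▸ mem_top x⟩ : ↥N) ∈ MulAction.stabilizer (↥N) o := (hstab x).2 L.memx
    rw [e, mem_bot] at h1
    exact congrArg Subtype.val h1
  rcases Cfsg.Agent.S0340.result (G := G) (Ω := G ⧸ M) ⟨hfaith, h2, h3, h4, h5⟩ with hF | ⟨-, m, -, hm⟩
  · exact hF
  · refine absurd ?_ hne
    rw [hm]
    refine dvd_mul_of_dvd_left (dvd_mul_of_dvd_right ?_ _) _
    rw [← pow_mul, show (2 * m + 1) * 2 = 4 * m + 2 by ring, pow_add, pow_mul, Nat.dvd_iff_mod_eq_zero,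
      Nat.add_mod, Nat.mul_mod, Nat.pow_mod]
    norm_num

end Strong

end Cfsg.Lib.PrimePowerOrders
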