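import Cfsg.Agent.PrimePowerOrders.Basic
import Cfsg.Agent.Coprime.Hall

/-!
Forbidden subgroups of groups of restricted element orders: their lifts from quotients, and the subgroup of
order twenty-one found in every nonsolvable section.
-/

set_option autoImplicit false
set_option linter.unusedSectionVars false
set_option linter.style.haveILetI false

namespace Cfsg.Lib.PrimePowerOrders

open Subgroup

universe u

variable {G : Type u} [Group G] [Finite G]

/-- a central element of prime order of a nontrivial subgroup of prime power order -/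
theorem exists_central {P : Subgroup G} {p : ℕ} [Fact p.Prime] (hP : IsPGroup p ↥P) (hne : P ≠ ⊥) :
    ∃ a ∈ P, orderOf a = p ∧ ∀ b ∈ P, Commute a b := by
  haveI : Nontrivial ↥P := (nontrivial_iff_ne_bot P).2 hne
  haveI := hP.center_nontrivial
  obtain ⟨z, hz⟩ := exists_prime_orderOf_dvd_card' (G := ↥(center ↥P)) p (by
    obtain ⟨n, hn⟩ := IsPGroup.iff_card.1 (hP.to_subgroup (center ↥P))
    have := Finite.one_lt_card (α := ↥(center ↥P))
    rcases n with _ | n
    · rw [pow_zero] at hn; omega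
    · rw [hn]; exact dvd_pow_self p (by omega))
  refine ⟨((z : ↥P) : G), (z : ↥P).2, by rw [orderOf_coe, orderOf_coe, hz], fun b hb => ?_⟩
  exact (congrArg Subtype.val (mem_center_iff.1 z.2 ⟨b, hb⟩)).symm

variable (h : EP G)
include h

/-- A subgroup of odd prime power order acting on a nontrivial group of another prime exponent has prime order. -/
theorem EP.card_of_acting {P : Subgroup G} {p r : ℕ} [Fact p.Prime] (hP : IsPGroup p ↥P) (hp2 : p ≠ 2) (hr : r.Prime)
    (hpr : p ≠ r) (hne : P ≠ ⊥) (W : Subgroup G) [IsMulCommutative W] (hWr : ∀ w ∈ W, w ^ r = 1) (hW : W ≠ ⊥)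
    (hPW : ∀ g ∈ P, ∀ w ∈ W, g * w * g⁻¹ ∈ W) : ∃ a, orderOf a = p ∧ P = zpowers a := by
  obtain ⟨a, haP, ha, hac⟩ := exists_central hP hne
  refine ⟨a, ha, le_antisymm (fun b hb => ?_) (zpowers_le.2 haP)⟩
  by_contra hba
  obtain ⟨v, hv, hv1⟩ : ∃ v ∈ W, v ≠ 1 := by
    by_contra hcon
    push Not at hcon
    exact hW ((eq_bot_iff_forall W).2 hcon)
  refine hv1 (h.no_pp hr hpr ha ?_ hba (hac b hb) W hWr (hPW a haP) (hPW b hb) hv)
  obtain ⟨k, hk⟩ := IsPGroup.iff_orderOf.1 hP ⟨b, hb⟩
  rw [orderOf_mk] at hk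
  rcases k with _ | k
  · rw [orderOf_eq_one_iff.1 (by simpa using hk : orderOf b = 1), one_pow]
  · rw [← h.odd_prime Fact.out hp2 (hk ▸ dvd_pow_self p (by omega)), pow_orderOf_eq_one]

/-- No group of prime power order with an element of another prime order normalising it acts on a nontrivial
group of a third prime exponent. -/
theorem EP.no_group_pq {P : Subgroup G} {p q r : ℕ} [Fact p.Prime] (hP : IsPGroup p ↥P) (hp2 : p ≠ 2)
    (hq : q.Prime) (hr : r.Prime) (hpq : p ≠ q) (hpr : p ≠ r) (hqr : q ≠ r) (hne : P ≠ ⊥) {g : G}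
    (hg : orderOf g = q) (hgP : ∀ v ∈ P, g * v * g⁻¹ ∈ P) (W : Subgroup G) [IsMulCommutative W]
    (hWr : ∀ w ∈ W, w ^ r = 1) (hW : W ≠ ⊥) (hPW : ∀ x ∈ P, ∀ w ∈ W, x * w * x⁻¹ ∈ W)
    (hgW : ∀ w ∈ W, g * w * g⁻¹ ∈ W) : False := by
  obtain ⟨a, ha, rfl⟩ := h.card_of_acting hP hp2 hr hpr hne W hWr hW hPW
  obtain ⟨v, hv, hv1⟩ : ∃ v ∈ W, v ≠ 1 := by
    by_contra hcon
    push Not at hcon
    exact hW ((eq_bot_iff_forall W).2 hcon)
  exact hv1 (h.no_pq hq hr hpq hpr hqr ha hg (hgP a (mem_zpowers a)) W hWr (hPW a (mem_zpowers a)) hgW hv)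

/-- Lift of a normalised subgroup of prime order of a quotient. -/
theorem EP.lift_normalised (K : Subgroup G) [K.Normal] {p q : ℕ} [Fact p.Prime] (hq : q.Prime) (hq2 : q ≠ 2)
    (hpq : p ≠ q) {P' : Subgroup (G ⧸ K)} (hP' : IsPGroup p ↥P') (hne : P' ≠ ⊥) {y' : G ⧸ K}
    (hy' : orderOf y' = q) (hn : ∀ v ∈ P', y' * v * y'⁻¹ ∈ P') :
    ∃ P : Subgroup G, IsPGroup p ↥P ∧ P ≠ ⊥ ∧ ∃ g, orderOf g = q ∧ ∀ v ∈ P, g * v * g⁻¹ ∈ P := by
  obtain ⟨y, rfl⟩ := QuotientGroup.mk'_surjective K y'
  set H : Subgroup G := P'.comap (QuotientGroup.mk' K) with hH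
  have hyn : ∀ v ∈ H, y * v * y⁻¹ ∈ H := fun v hv => by
    rw [hH, mem_comap, map_mul, map_mul, map_inv]
    exact hn _ hv
  obtain ⟨S⟩ : Nonempty (Sylow p ↥H) := inferInstance
  let c : ↥H ≃* ↥H :=
    { toFun := fun v => ⟨y * v * y⁻¹, hyn v v.2⟩
      invFun := fun v => ⟨y⁻¹ * v * y, by
        have hfin : ∀ n : ℕ, ∀ w ∈ H, y ^ n * w * (y ^ n)⁻¹ ∈ H := pow_normalises H hyn
        have := hfin (orderOf y - 1) v v.2
        rwa [show y ^ (orderOf y - 1) = y⁻¹ from eq_inv_of_mul_eq_one_left (by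
          rw [← pow_succ, Nat.sub_add_cancel (orderOf_pos y), pow_orderOf_eq_one]), inv_inv] at this⟩
      left_inv := fun v => Subtype.ext (by show y⁻¹ * (y * v * y⁻¹) * y = v; group)
      right_inv := fun v => Subtype.ext (by show y * (y⁻¹ * v * y) * y⁻¹ = v; group)
      map_mul' := fun v w => Subtype.ext (by
        show y * ((v : G) * w) * y⁻¹ = y * v * y⁻¹ * (y * w * y⁻¹)
        group) }
  obtain ⟨S', hS'⟩ : ∃ S' : Sylow p ↥H, (S' : Subgroup ↥H) = (S : Subgroup ↥H).map c.toMonoidHom :=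
    ⟨S.mapSurjective (f := c.toMonoidHom) c.surjective, rfl⟩
  obtain ⟨k, hk⟩ := MulAction.exists_smul_eq ↥H S' S
  set P : Subgroup G := (S : Subgroup ↥H).map H.subtype with hP
  set g : G := (k : G) * y with hgd
  have hgP : ∀ v ∈ P, g * v * g⁻¹ ∈ P := by
    rintro _ ⟨v, hv, rfl⟩
    have h1 : c v ∈ (S' : Subgroup ↥H) := hS' ▸ mem_map_of_mem _ hv
    have h2 : k * c v * k⁻¹ ∈ (S : Subgroup ↥H) := by
      rw [← hk, Sylow.coe_subgroup_smul]
      exact ⟨c v, h1, rfl⟩
    refine ⟨_, h2, ?_⟩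
    show (k : G) * (y * v * y⁻¹) * (k : G)⁻¹ = (k : G) * y * v * ((k : G) * y)⁻¹
    group
  refine ⟨P, S.2.map H.subtype, ?_, ?_⟩
  · intro hbot
    obtain ⟨a', ha', ha1, -⟩ := exists_central hP' hne
    obtain ⟨a, rfl⟩ := QuotientGroup.mk'_surjective K a'
    have hpH : p ∣ Nat.card ↥H := by
      refine dvd_trans ?_ (orderOf_dvd_natCard (⟨a, mem_comap.2 ha'⟩ : ↥H))
      rw [show orderOf (⟨a, mem_comap.2 ha'⟩ : ↥H) = orderOf a from orderOf_mk a _, ← ha1]
      exact orderOf_map_dvd _ a
    refine S.ne_bot_of_dvd_card hpH ((map_eq_bot_iff_of_injective _ H.subtype_injective).1 hbot)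
  · have hd : q ∣ orderOf (QuotientGroup.mk' K g) := by
      set x' := QuotientGroup.mk' K g
      have hkP : QuotientGroup.mk' K (k : G) ∈ P' := k.2
      have hpow : ∀ n : ℕ, x' ^ n * ((QuotientGroup.mk' K y) ^ n)⁻¹ ∈ P' := by
        intro n
        induction n with
        | zero => simp
        | succ n ih =>
          have h3 := P'.mul_mem hkP (hn _ ih)
          rwa [show QuotientGroup.mk' K (k : G) * (QuotientGroup.mk' K y * (x' ^ n * ((QuotientGroup.mk' K y) ^ n)⁻¹) *
            (QuotientGroup.mk' K y)⁻¹) = x' ^ (n + 1) * ((QuotientGroup.mk' K y) ^ (n + 1))⁻¹ by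
            rw [pow_succ' x', pow_succ' (QuotientGroup.mk' K y), show x' = QuotientGroup.mk' K (k : G) *
              QuotientGroup.mk' K y from map_mul _ _ _]
            group] at h3
      have h3 := inv_mem (hpow (orderOf x'))
      rw [pow_orderOf_eq_one, one_mul, inv_inv] at h3
      obtain ⟨j, hj⟩ := IsPGroup.iff_orderOf.1 hP' ⟨_, h3⟩
      rw [orderOf_mk] at hj
      by_contra hnd
      have h4 : orderOf ((QuotientGroup.mk' K y) ^ orderOf x') = q := by
        rw [orderOf_pow' _ (orderOf_pos x').ne', hy', (hq.coprime_iff_not_dvd.2 hnd).gcd_eq_one, Nat.div_one]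
      rw [h4] at hj
      exact hpq ((Nat.prime_dvd_prime_iff_eq hq Fact.out).1 (hq.dvd_of_dvd_pow (dvd_of_eq hj))).symm
    exact ⟨g, h.odd_prime hq hq2 (hd.trans (orderOf_map_dvd _ g)), hgP⟩

omit h

/-- a subgroup of order a power of seven normalised by an element of order three -/
def HasTwentyOne (X : Type*) [Group X] : Prop :=
  ∃ P : Subgroup X, IsPGroup 7 ↥P ∧ P ≠ ⊥ ∧ ∃ g, orderOf g = 3 ∧ ∀ v ∈ P, g * v * g⁻¹ ∈ P

/-- The simple groups of order less than `n` have order 168. -/
def SmallSimple (n : ℕ) : Prop :=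
  ∀ (X : Type u) [Group X] [Finite X], EP X → IsSimpleGroup X → ¬ IsMulCommutative X → Nat.card X < n →
    Nat.card X = 168

theorem hasTwentyOne_of_card [IsSimpleGroup G] (hc : Nat.card G = 168) : HasTwentyOne G := by
  haveI : Fact (Nat.Prime 7) := ⟨by norm_num⟩
  haveI : Fact (Nat.Prime 3) := ⟨by norm_num⟩
  obtain ⟨S⟩ : Nonempty (Sylow 7 G) := inferInstance
  have hS : Nat.card ↥(S : Subgroup G) = 7 := by
    rw [S.card_eq_multiplicity, hc, show (168 : ℕ) = 7 ^ 1 * 24 by norm_num,
      Nat.factorization_mul (by norm_num) (by norm_num)]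
    simp [Nat.Prime.factorization_self (by norm_num : Nat.Prime 7),
      Nat.factorization_eq_zero_of_not_dvd (show ¬ 7 ∣ 24 by norm_num)]
  have hidx : (S : Subgroup G).index = 24 := by
    have := (S : Subgroup G).card_mul_index
    rw [hS, hc] at this
    omega
  have hn : Nat.card (Sylow 7 G) ∈ ({1, 8} : Finset ℕ) := by
    have h1 := card_sylow_modEq_one 7 G
    have h2 := S.card_dvd_index
    rw [hidx] at h2
    have h3 := Nat.le_of_dvd (by norm_num) h2
    revert h1 h2
    generalize Nat.card (Sylow 7 G) = m at h3 ⊢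
    intro h1 h2
    interval_cases m <;> simp_all (config := { decide := true })
  have hn8 : Nat.card (Sylow 7 G) = 8 := by
    simp only [Finset.mem_insert, Finset.mem_singleton] at hn
    refine hn.resolve_left fun h1 => ?_
    haveI : Subsingleton (Sylow 7 G) := (Nat.card_eq_one_iff_unique.1 h1).1
    haveI : (S : Subgroup G).Normal := S.normal_of_subsingleton
    rcases IsSimpleGroup.eq_bot_or_eq_top_of_normal (S : Subgroup G) inferInstance with e | e <;> rw [e] at hS
    · rw [card_bot] at hS; omega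
    · rw [card_top, hc] at hS; omega
  have hN : Nat.card ↥(normalizer ((S : Subgroup G) : Set G)) = 21 := by
    have h1 := (normalizer ((S : Subgroup G) : Set G)).card_mul_index
    have h2 := S.card_eq_index_normalizer
    rw [hn8] at h2
    change (8 : ℕ) = (normalizer ((S : Subgroup G) : Set G)).index at h2
    rw [← h2, hc] at h1
    omega
  obtain ⟨⟨g, hg⟩, hgo⟩ := exists_prime_orderOf_dvd_card' (G := ↥(normalizer ((S : Subgroup G) : Set G))) 3
    (by rw [hN]; norm_num)
  rw [orderOf_mk] at hgo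
  refine ⟨S, S.2, fun e => ?_, g, hgo, fun v hv => (mem_normalizer_iff.1 hg v).1 hv⟩
  rw [e, card_bot] at hS
  omega

/-- A nonsolvable group has a subgroup of order a power of seven normalised by an element of order three. -/
theorem hasTwentyOne {n : ℕ} (hsmall : SmallSimple.{u} n) :
    ∀ (m : ℕ) (X : Type u) [Group X] [Finite X], Nat.card X = m → EP X → ¬ Group.IsSolvable X → Nat.card X < n →
      HasTwentyOne X := by
  haveI : Fact (Nat.Prime 7) := ⟨by norm_num⟩
  intro m
  induction m using Nat.strong_induction_on with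
  | _ m ih =>
    intro X _ _ hm hX hns hlt
    by_cases hK : ∃ K : Subgroup X, K.Normal ∧ K ≠ ⊥ ∧ K ≠ ⊤
    · obtain ⟨K, hKn, hKb, hKt⟩ := hK
      haveI := hKn
      have hcK : Nat.card ↥K < Nat.card X := by
        refine lt_of_le_of_ne (K.card_le_card_group) fun e => hKt (eq_top_of_card_eq K e)
      have hcQ : Nat.card (X ⧸ K) < Nat.card X := by
        have h1 : Nat.card (X ⧸ K) * Nat.card ↥K = Nat.card X := (card_eq_card_quotient_mul_card_subgroup K).symm
        have h2 : 1 < Nat.card ↥K := by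
          by_contra hle
          exact hKb (eq_bot_of_card_le K (by omega))
        have h3 : 0 < Nat.card (X ⧸ K) := Nat.card_pos
        nlinarith
      by_cases hKs : Group.IsSolvable ↥K
      · have hQs : ¬ Group.IsSolvable (X ⧸ K) := fun hs => hns (by
          haveI := hKs
          haveI := hs
          exact Group.isSolvable_of_ker_le_range K.subtype (QuotientGroup.mk' K)
            (by rw [QuotientGroup.ker_mk', range_subtype]))
        obtain ⟨P', hP', hne', y', hy', hn'⟩ := ih _ (hm ▸ hcQ) (X ⧸ K) rfl (hX.quotient K) hQs (hcQ.trans hlt)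
        obtain ⟨P, hP, hne, g, hg, hgP⟩ := hX.lift_normalised K (p := 7) (q := 3) (by norm_num) (by norm_num)
          (by norm_num) hP' hne' hy' hn'
        exact ⟨P, hP, hne, g, hg, hgP⟩
      · obtain ⟨P, hP, hne, g, hg, hgP⟩ := ih _ (hm ▸ hcK) ↥K rfl (hX.subgroup K) hKs (hcK.trans hlt)
        refine ⟨P.map K.subtype, hP.map _, fun e => hne ((map_eq_bot_iff_of_injective _ K.subtype_injective).1 e),
          (g : X), by rw [orderOf_coe, hg], ?_⟩
        rintro _ ⟨v, hv, rfl⟩
        exact ⟨g * v * g⁻¹, hgP v hv, rfl⟩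
    · push Not at hK
      haveI : Nontrivial X := by
        by_contra hnt
        rw [not_nontrivial_iff_subsingleton] at hnt
        exact hns (by haveI := hnt; infer_instance)
      haveI hsimp : IsSimpleGroup X := ⟨fun K hKn => Classical.or_iff_not_imp_left.2 fun hb => hK K hKn hb⟩
      refine hasTwentyOne_of_card (hsmall X hX hsimp (fun hc => hns ?_) hlt)
      haveI := hc
      letI : CommGroup X := { (inferInstance : Group X) with mul_comm := fun a b => mul_comm' a b }
      infer_instance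

end Cfsg.Lib.PrimePowerOrders
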