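import Cfsg.Agent.SelfCentNC.Structure
import Cfsg.Agent.S0112
import Cfsg.Agent.PrimePowerOrders.Pairs

/-!
A simple group of restricted element orders with a self-centralising four-group is a linear fractional group.
-/

set_option autoImplicit false
set_option linter.unusedSectionVars false
set_option linter.style.haveILetI false

open Subgroup Cfsg.Lib.SelfCentNC

namespace Cfsg.Lib.PrimePowerOrders

variable {G : Type*} [Group G] [Finite G]

/-- A 2-group with a self-centralising four-group contains the centraliser of each noncyclic subgroup. -/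
theorem hasProp_of_four {P : Type*} [Group P] [Finite P] (hP : IsPGroup 2 P) (V : Subgroup P)
    (h4 : Nat.card ↥V = 4) (hsq : ∀ v ∈ V, v * v = 1) (hC : centralizer (V : Set P) = V) : HasProp P := by
  haveI : Fact (Nat.Prime 2) := ⟨Nat.prime_two⟩
  obtain ⟨n, hn⟩ := IsPGroup.iff_card.1 hP
  by_cases hab : IsMulCommutative P
  · have hV : V = ⊤ := top_le_iff.1 fun g _ => hC ▸ mem_centralizer_iff.2 fun v _ => mul_comm' v g
    intro H hH
    obtain ⟨k, hk⟩ := IsPGroup.iff_card.1 (hP.to_subgroup H)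
    have hc4 : Nat.card P = 4 := by rw [← card_top (G := P), ← hV, h4]
    have hle : Nat.card ↥H ≤ 4 := hc4 ▸ H.card_le_card_group
    have hH4 : H = ⊤ := by
      rcases k with _ | _ | k
      · refine absurd ?_ hH
        haveI : Subsingleton ↥H := (Nat.card_eq_one_iff_unique.1 (by simpa using hk)).1
        infer_instance
      · exact absurd (isCyclic_of_prime_card (p := 2) (by simpa using hk)) hH
      · refine eq_top_of_card_eq H ?_
        have : 2 ^ 2 ≤ 2 ^ (k + 2) := Nat.pow_le_pow_right (by norm_num) (by omega)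
        rw [show k + 1 + 1 = k + 2 from rfl] at hk
        omega
    rw [hH4]
    exact le_top
  · have hclass := Cfsg.Agent.S0112.result (p := 2) n hn V (by rw [h4]; norm_num) hC
    have hn3 : 3 ≤ n := by
      by_contra hlt
      have h1 : Nat.card ↥V ≤ Nat.card P := V.card_le_card_group
      rw [h4, hn] at h1
      obtain rfl : n = 2 := by
        rcases n with _ | _ | _ | n <;> omega
      exact hab (IsPGroup.isMulCommutative_of_card_eq_prime_sq hn)
    refine (Cfsg.Agent.S3919.result hab n hn).2 fun e => ?_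
    haveI := hP.isNilpotent
    have hle := Subgroup.lowerCentralSeries_eq_bot_iff_nilpotencyClass_le.1 e
    rw [hclass] at hle
    omega

/-- The four-group case, for involution centralisers which are 2-groups. -/
theorem exists_psl_of_four' [IsSimpleGroup G]
    (h : ∀ t : G, orderOf t = 2 → IsPGroup 2 ↥(centralizer ({t} : Set G))) (hna : ¬ IsMulCommutative G) (V : Subgroup G)
    (h4 : Nat.card ↥V = 4) (hsq : ∀ v ∈ V, v * v = 1) (hC : centralizer (V : Set G) = V) :
    ∃ (F : Type) (_ : Field F) (_ : Fintype F), Odd (Fintype.card F) ∧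
      Nonempty (G ≃* Matrix.ProjectiveSpecialLinearGroup (Fin 2) F) := by
  haveI : Fact (Nat.Prime 2) := ⟨Nat.prime_two⟩
  have hV2 : IsPGroup 2 ↥V := IsPGroup.of_card (n := 2) (by rw [h4]; norm_num)
  obtain ⟨S, hVS⟩ := hV2.exists_le_sylow
  have hSne : (S : Subgroup G) ≠ ⊥ := fun e => by
    have h1 := Nat.le_of_dvd Nat.card_pos (Subgroup.card_dvd_of_le hVS)
    rw [e, card_bot, h4] at h1
    omega
  obtain ⟨t, htS, ht, htc'⟩ := exists_central S.2 hSne
  have htc : ∀ w ∈ (S : Subgroup G), Commute w t := fun w hw => (htc' w hw).symm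
  have htV : t ∈ V := hC ▸ mem_centralizer_iff.2 fun v hv => (htc v (hVS hv)).eq
  obtain ⟨s, hsV, hs1, hne⟩ : ∃ s ∈ V, s ≠ 1 ∧ s ≠ t := by
    by_contra hcon
    push Not at hcon
    have hle : Nat.card ↥V ≤ Nat.card Bool := by
      refine Nat.card_le_card_of_injective (fun v : ↥V => @decide ((v : G) = 1) (Classical.dec _)) fun a b e => ?_
      simp only [decide_eq_decide] at e
      refine Subtype.ext ?_
      by_cases ha : (a : G) = 1
      · rw [ha, e.1 ha]
      · rw [hcon a a.2 ha, hcon b b.2 fun hb => ha (e.2 hb)]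
    rw [h4, Nat.card_eq_fintype_card, Fintype.card_bool] at hle
    omega
  have hs : orderOf s = 2 := orderOf_eq_prime (by rw [pow_two]; exact hsq s hsV) hs1
  have hsS : s ∈ (S : Subgroup G) := hVS hsV
  have hst : Commute s t := htc s hsS
  have hP : HasProp ↥(S : Subgroup G) := by
    refine hasProp_of_four S.2 (V.subgroupOf (S : Subgroup G))
      (by rw [Nat.card_congr (subgroupOfEquivOfLe hVS).toEquiv, h4]) (fun v hv => Subtype.ext (hsq v hv)) ?_
    refine le_antisymm (fun g hg => ?_) fun g hg => mem_centralizer_iff.2 fun v hv => ?_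
    · show (g : G) ∈ V
      rw [← hC]
      exact mem_centralizer_iff.2 fun v hv => congrArg Subtype.val (mem_centralizer_iff.1 hg ⟨v, hVS hv⟩ hv)
    · have hvC : (v : G) ∈ centralizer (V : Set G) := hC.ge hv
      exact Subtype.ext (mem_centralizer_iff.1 hvC g hg).symm
  obtain ⟨r', k, sh'⟩ := exists_shape hP ⊤ (S.2.to_subgroup ⊤) (t := ⟨t, htS⟩) (s := ⟨s, hsS⟩)
    (by rw [orderOf_mk, ht]) (by rw [orderOf_mk, hs]) (fun e => hne (congrArg Subtype.val e)) (mem_top _) (mem_top _)
    (fun w _ => Subtype.ext (htc w w.2).eq)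
  set r : G := (r' : G)
  have sh : Shape (S : Subgroup G) t s r k :=
    { k_pos := sh'.k_pos
      ord := by rw [orderOf_coe, sh'.ord]
      mem := r'.2
      t_eq := congrArg Subtype.val sh'.t_eq
      not_mem := fun hmem => sh'.not_mem (by
        obtain ⟨i, hi⟩ := hmem
        exact ⟨i, Subtype.ext (by simpa using hi)⟩)
      cases := fun w hw => by
        obtain ⟨i, e | e⟩ := sh'.cases ⟨w, hw⟩ (mem_top _)
        · exact ⟨i, Or.inl (by simpa using congrArg Subtype.val e)⟩
        · exact ⟨i, Or.inr (by simpa using congrArg Subtype.val e)⟩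
      act := by
        rcases sh'.act with e | ⟨hk, e⟩
        · exact Or.inl (by simpa using congrArg Subtype.val e)
        · exact Or.inr ⟨hk, by simpa using congrArg Subtype.val e⟩
      card := by
        rw [← sh'.card, card_top] }
  have hCz : centralizer ({t} : Set G) = (S : Subgroup G) :=
    S.is_maximal' (h t ht) fun w hw => mem_centralizer_singleton_iff.2 (htc w hw).eq
  have hact : s * r * s⁻¹ = r⁻¹ := by
    rcases sh.act with h | ⟨hk3, h⟩
    · exact h
    · exact (not_semidihedral hna S ht hs hsS hCz sh hk3 h).elim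
  have hinv : ∀ x ∈ zpowers r, s * x * s⁻¹ = x⁻¹ := by
    rintro _ ⟨i, rfl⟩
    show s * r ^ i * s⁻¹ = (r ^ i)⁻¹
    rw [← conj_zpow, hact, inv_zpow]
  have hKle : zpowers r ≤ centralizer ({t} : Set G) := hCz.symm ▸ zpowers_le.2 sh.mem
  have htK : t ∈ zpowers r := sh.t_eq ▸ pow_mem (mem_zpowers r) _
  -- all involutions are conjugate
  have hone : ∀ x : G, orderOf x = 2 → IsConj x t := by
    intro x hx
    obtain ⟨Q, hQ⟩ := IsPGroup.exists_le_sylow (IsPGroup.of_card (n := 1) (by rw [Nat.card_zpowers, hx, pow_one]) :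
      IsPGroup 2 ↥(zpowers x))
    obtain ⟨g, hg⟩ := MulAction.exists_smul_eq G Q S
    have hgx : g * x * g⁻¹ ∈ (S : Subgroup G) := by
      rw [← hg, Sylow.coe_subgroup_smul]
      exact ⟨x, hQ (mem_zpowers x), rfl⟩
    have hgo : orderOf (g * x * g⁻¹) = 2 := by
      rw [show g * x * g⁻¹ = MulAut.conj g x from rfl, MulEquiv.orderOf_eq, hx]
    refine (isConj_iff.2 ⟨g, rfl⟩ : IsConj x (g * x * g⁻¹)).trans ?_
    set y := g * x * g⁻¹ with hy
    by_cases hyR : y ∈ zpowers r
    · rw [eq_of_sq_one_cyclic (zpowers r) hyR htK (ne_one_of_two hgo) (ne_one_of_two ht) (sq_one hgo) (sq_one ht)]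
    have hidx : (zpowers r).index = 2 * (S : Subgroup G).index := by
      have h1 := (S : Subgroup G).card_mul_index
      have h2 := (zpowers r).card_mul_index
      rw [Nat.card_zpowers, sh.ord, ← h1, sh.card, pow_succ] at h2
      exact Nat.eq_of_mul_eq_mul_left (pow_pos two_pos k) (by rw [h2]; ring)
    by_contra hno
    obtain ⟨M, hM, hMi, -⟩ := Cfsg.Lib.Transfer.exists_index_two_not_mem (zpowers r)
      (Nat.odd_iff.2 (Nat.two_dvd_ne_zero.1 S.not_dvd_index)) hidx hgo fun h hh => hno (by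
        have hho : orderOf (h⁻¹ * y * h) = 2 := by
          rw [show h⁻¹ * y * h = MulAut.conj h⁻¹ y by simp, MulEquiv.orderOf_eq, hgo]
        rw [← eq_of_sq_one_cyclic (zpowers r) hh htK (ne_one_of_two hho) (ne_one_of_two ht) (sq_one hho) (sq_one ht)]
        exact isConj_iff.2 ⟨h⁻¹, by group⟩)
    haveI := hM
    rcases IsSimpleGroup.eq_bot_or_eq_top_of_normal M hM with e | e <;> rw [e] at hMi
    · rw [Subgroup.index_bot] at hMi
      haveI := isCyclic_of_prime_card hMi
      letI : CommGroup G := IsCyclic.commGroup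
      exact hna ⟨⟨fun a b => mul_comm a b⟩⟩
    · rw [Subgroup.index_top] at hMi; omega
  have hH : zpowers r ⊔ zpowers s = centralizer ({t} : Set G) := by
    rw [hCz]
    refine le_antisymm (sup_le (zpowers_le.2 sh.mem) (zpowers_le.2 hsS)) fun w hw => ?_
    obtain ⟨i, rfl | rfl⟩ := sh.cases w hw
    · exact mem_sup_left ⟨i, rfl⟩
    · exact mul_mem (mem_sup_left ⟨i, rfl⟩) (mem_sup_right (mem_zpowers s))
  have hCK : zpowers r ⊓ centralizer ({s} : Set G) = zpowers t := by
    refine le_antisymm ?_ (zpowers_le.2 ⟨htK, mem_centralizer_singleton_iff.2 hst.eq.symm⟩)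
    rintro x ⟨hx, hxs⟩
    have h1 := hinv x hx
    rw [← mem_centralizer_singleton_iff.1 hxs, mul_inv_cancel_right] at h1
    by_cases hx1 : x = 1
    · exact hx1 ▸ one_mem _
    · rw [eq_of_sq_one_cyclic (zpowers r) hx htK hx1 (ne_one_of_two ht) (mul_eq_one_iff_eq_inv.2 h1) (sq_one ht)]
      exact mem_zpowers t
  have hTI : ∀ g : G, g ∉ centralizer ({t} : Set G) → zpowers r ⊓ (zpowers r).map (MulAut.conj g).toMonoidHom = ⊥ := by
    intro g hg
    by_contra hne'
    haveI : Nontrivial ↥(zpowers r ⊓ (zpowers r).map (MulAut.conj g).toMonoidHom) :=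
      (Subgroup.nontrivial_iff_ne_bot _).2 hne'
    obtain ⟨y, hy⟩ := exists_prime_orderOf_dvd_card'
      (G := ↥(zpowers r ⊓ (zpowers r).map (MulAut.conj g).toMonoidHom)) 2 (by
        obtain ⟨n, hn⟩ := IsPGroup.iff_card.1 (S.2.to_le (inf_le_left.trans (zpowers_le.2 sh.mem)) :
          IsPGroup 2 ↥(zpowers r ⊓ (zpowers r).map (MulAut.conj g).toMonoidHom))
        have := Finite.one_lt_card (α := ↥(zpowers r ⊓ (zpowers r).map (MulAut.conj g).toMonoidHom))
        rcases n with _ | n
        · omega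
        · rw [hn]; exact dvd_pow_self 2 (by omega))
    have hyo : orderOf (y : G) = 2 := by rw [Subgroup.orderOf_coe, hy]
    have hyt : (y : G) = t :=
      eq_of_sq_one_cyclic (zpowers r) y.2.1 htK (ne_one_of_two hyo) (ne_one_of_two ht) (sq_one hyo) (sq_one ht)
    obtain ⟨v, hv, hve⟩ := y.2.2
    have hvo : orderOf v = 2 := by rw [← MulEquiv.orderOf_eq (MulAut.conj g) v]; exact (congrArg orderOf hve).trans hyo
    have hvt : v = t :=
      eq_of_sq_one_cyclic (zpowers r) hv htK (ne_one_of_two hvo) (ne_one_of_two ht) (sq_one hvo) (sq_one ht)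
    apply hg
    rw [mem_centralizer_singleton_iff, ← mul_inv_eq_iff_eq_mul]
    rw [hyt, hvt] at hve
    exact hve
  have hKab : IsMulCommutative ↥(zpowers r) := by
    letI : CommGroup ↥(zpowers r) := IsCyclic.commGroup
    exact ⟨⟨fun a b => mul_comm a b⟩⟩
  obtain ⟨Q, D, hcard, hC, -, hD, hQD, hN, hX⟩ := Cfsg.Agent.S3282.result t ht (zpowers r) hKab hKle htK s hs
    (hCz.symm ▸ hsS) sh.not_mem hH hCK hinv hTI (fun x y hx hy => (hone x hx).trans (hone y hy).symm)
  have hD1 : D ≠ ⊥ := by
    intro e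
    rw [e, Subgroup.card_bot] at hD
    rw [← hD] at hcard
    have hsol : Group.IsSolvable G := Cfsg.Lib.Chars.burnside_isSolvable 2 3 Nat.prime_two Nat.prime_three G
      ⟨2, 1, by norm_num at hcard ⊢; omega⟩
    exact hna ⟨⟨fun a b => IsSimpleGroup.comm_iff_isSolvable.2 hsol a b⟩⟩
  obtain ⟨F, i1, i2, hF, hiso⟩ := Cfsg.Lib.PSLOrderSpec.psl_of_concl Q D hcard hC hD hD1 hQD hN hX
  exact ⟨F, i1, i2, ⟨Nat.card ↥D, by rw [hF]; omega⟩, hiso⟩

/-- The four-group case. -/
theorem exists_psl_of_four [IsSimpleGroup G] (h : EP G) (hna : ¬ IsMulCommutative G) (V : Subgroup G)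
    (h4 : Nat.card ↥V = 4) (hsq : ∀ v ∈ V, v * v = 1) (hC : centralizer (V : Set G) = V) :
    ∃ (F : Type) (_ : Field F) (_ : Fintype F), Odd (Fintype.card F) ∧
      Nonempty (G ≃* Matrix.ProjectiveSpecialLinearGroup (Fin 2) F) :=
  exists_psl_of_four' (fun _ ht => by
    haveI : Fact (Nat.Prime 2) := ⟨Nat.prime_two⟩
    exact h.isPGroup_centralizer (by rw [ht])) hna V h4 hsq hC

end Cfsg.Lib.PrimePowerOrders
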