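import Cfsg.Agent.PrimePowerOrders.Amalgam
import Cfsg.Agent.SelfCentNC.Structure

/-!
A simple group of restricted element orders without a self-centralising four-group has a strongly embedded
subgroup: the normaliser of a Sylow subgroup for the prime two.
-/

set_option autoImplicit false
set_option linter.unusedSectionVars false
set_option linter.style.haveILetI false

namespace Cfsg.Lib.PrimePowerOrders

open Subgroup

universe u

variable {G : Type u} [Group G] [Finite G]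

/-- there is no self-centralising four-group -/
def NoFour (G : Type*) [Group G] : Prop :=
  ∀ V : Subgroup G, Nat.card ↥V = 4 → (∀ v ∈ V, v * v = 1) → centralizer (V : Set G) ≠ V

theorem MaxLocal.map {M R : Subgroup G} (L : MaxLocal M R) (e : G ≃* G) :
    MaxLocal (M.map e.toMonoidHom) (R.map e.toMonoidHom) := by
  have hback : ∀ K : Subgroup G, ∀ v, v ∈ K.map e.symm.toMonoidHom ↔ e v ∈ K := fun K v => by
    rw [mem_map_equiv, MulEquiv.symm_symm]
  have hfor : ∀ K : Subgroup G, (K.map e.symm.toMonoidHom).map e.toMonoidHom = K := fun K => by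
    ext v
    rw [mem_map_equiv, hback, MulEquiv.apply_symm_apply]
  refine ⟨L.two.map _, fun hb => L.ne ((map_eq_bot_iff_of_injective _ e.injective).1 hb), ?_, fun ht => L.proper ?_,
    fun K hKM hK hKn => ?_, fun K hK hKne hMK => ?_⟩
  · rw [← map_equiv_normalizer_eq, L.norm]
  · refine top_le_iff.1 fun v _ => ?_
    have := ht.ge (mem_top (e v))
    rwa [mem_map_equiv, MulEquiv.symm_apply_apply] at this
  · rw [← hfor K]
    refine map_mono (L.o2 _ ?_ (hK.map _) fun g hg v hv => ?_)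
    · intro v hv
      have := hKM ((hback K v).1 hv)
      rwa [mem_map_equiv, MulEquiv.symm_apply_apply] at this
    · rw [hback] at hv ⊢
      rw [map_mul, map_mul, map_inv]
      exact hKn _ ⟨g, hg, rfl⟩ _ hv
  · conv_lhs => rw [← hfor K]
    rw [← map_equiv_normalizer_eq, L.max _ (hK.map _) (fun hb => hKne ((map_eq_bot_iff_of_injective _ e.symm.injective).1 hb))
      fun g hg => mem_nrm fun v hv => ?_]
    rw [hback] at hv ⊢
    rw [map_mul, map_mul, map_inv]
    exact nrm_conj (hMK ⟨g, hg, rfl⟩) hv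

/-- A maximal local subgroup is its own normaliser. -/
theorem MaxLocal.self_norm {M R : Subgroup G} (L : MaxLocal M R) {g : G} (hg : ∀ m ∈ M, g * m * g⁻¹ ∈ M) :
    g ∈ M := by
  rw [← L.norm]
  refine mem_nrm fun v hv => L.o2 (R.map (MulAut.conj g).toMonoidHom) ?_ (L.two.map _) ?_ ⟨v, hv, rfl⟩
  · rintro _ ⟨w, hw, rfl⟩
    exact hg w (L.le hw)
  · rintro m hm _ ⟨w, hw, rfl⟩
    have hinv : g⁻¹ * m * g ∈ M := by
      have := nrm_conj (K := M) (inv_mem (mem_nrm hg)) hm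
      rwa [inv_inv] at this
    refine ⟨(g⁻¹ * m * g) * w * (g⁻¹ * m * g)⁻¹, L.conjR hinv hw, ?_⟩
    simp [mul_assoc]

/-- a 2-subgroup of a subgroup lies in a maximal one -/
theorem exists_max_two {M T₀ : Subgroup G} (hT₀ : T₀ ≤ M) (hT₀' : IsPGroup 2 ↥T₀) :
    ∃ T : Subgroup G, T₀ ≤ T ∧ T ≤ M ∧ IsPGroup 2 ↥T ∧
      ∀ T' : Subgroup G, T' ≤ M → IsPGroup 2 ↥T' → T ≤ T' → T' = T := by
  obtain ⟨T, ⟨h1, h2, h3⟩, hmax⟩ := Set.exists_max_image {T : Subgroup G | T₀ ≤ T ∧ T ≤ M ∧ IsPGroup 2 ↥T}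
    (fun T => Nat.card ↥T) (Set.toFinite _) ⟨T₀, le_rfl, hT₀, hT₀'⟩
  exact ⟨T, h1, h2, h3, fun T' h4 h5 h6 => (eq_of_le_of_card_ge h6 (hmax T' ⟨h1.trans h6, h4, h5⟩)).symm⟩

theorem conj_mem_map {M : Subgroup G} {g v : G} :
    v ∈ M.map (MulAut.conj g).toMonoidHom ↔ g⁻¹ * v * g ∈ M := by
  constructor
  · rintro ⟨w, hw, rfl⟩
    simpa [mul_assoc] using hw
  · intro hv
    exact ⟨_, hv, by simp [mul_assoc]⟩

/-- a strongly embedded normaliser of a Sylow subgroup -/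
structure Strong (M S : Subgroup G) (q : ℕ) (x : G) : Prop where
  two : IsPGroup 2 ↥S
  ne : S ≠ ⊥
  le : S ≤ M
  norm : ∀ m ∈ M, ∀ v ∈ S, m * v * m⁻¹ ∈ S
  proper : M ≠ ⊤
  self : ∀ g : G, (∀ m ∈ M, g * m * g⁻¹ ∈ M) → g ∈ M
  prime : q.Prime
  odd : q ≠ 2
  memx : x ∈ M
  ord : orderOf x = q
  card : Nat.card ↥M = Nat.card ↥S * q
  inv : ∀ v : G, orderOf v = 2 → v ∈ M → v ∈ S ∧ ∀ s ∈ S, Commute v s
  cent : ∀ v g : G, orderOf v = 2 → v ∈ M → Commute g v → g ∈ M
  se : ∀ g : G, g ∉ M → ∀ v : G, orderOf v = 2 → v ∈ M → g⁻¹ * v * g ∉ M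
  one_class : ∀ v w : G, orderOf v = 2 → orderOf w = 2 → IsConj v w

theorem conj_of_odd {u w : G} (hu : u * u = 1) (hw : w * w = 1) (ho : Odd (orderOf (u * w))) : IsConj w u := by
  obtain ⟨m, hm⟩ := ho
  set a := u * w
  have hwa : w * a * w⁻¹ = a⁻¹ := by
    simp only [a]
    rw [mul_inv_rev, inv_eq_of_mul_eq_one_right hu, inv_eq_of_mul_eq_one_right hw,
      show w * (u * w) * w = w * u * (w * w) by group, hw, mul_one]
  refine isConj_iff.2 ⟨a ^ (m + 1), ?_⟩
  have h1 : w * (a ^ (m + 1))⁻¹ = a ^ (m + 1) * w := by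
    rw [← inv_pow, ← hwa, conj_pow]
    have hwi : w⁻¹ = w := inv_eq_of_mul_eq_one_right hw
    rw [hwi, ← mul_assoc, ← mul_assoc, hw, one_mul]
  rw [mul_assoc, h1, ← mul_assoc, ← pow_add, show m + 1 + (m + 1) = orderOf a + 1 by omega, pow_succ,
    pow_orderOf_eq_one, one_mul]
  simp only [a]
  rw [mul_assoc, hw, mul_one]

section

variable (h : EP G) [IsSimpleGroup G] (hna : ¬ IsMulCommutative G)

theorem proper_nrm (hna : ¬ IsMulCommutative G) {K : Subgroup G} (hK : IsPGroup 2 ↥K) (hne : K ≠ ⊥) :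
    normalizer (K : Set G) ≠ ⊤ := by
  intro e
  haveI : K.Normal := normalizer_eq_top_iff.1 e
  have h1 : K = ⊤ := (IsSimpleGroup.eq_bot_or_eq_top_of_normal K inferInstance).resolve_left hne
  subst h1
  haveI : Fact (Nat.Prime 2) := ⟨Nat.prime_two⟩
  have h2 : IsPGroup 2 G := hK.of_equiv topEquiv
  haveI := h2.isNilpotent
  exact hna ⟨⟨fun a b => IsSimpleGroup.comm_iff_isSolvable.2 inferInstance a b⟩⟩

theorem exists_maxLocal (hna : ¬ IsMulCommutative G) {K₀ : Subgroup G} (hK₀ : IsPGroup 2 ↥K₀) (hne : K₀ ≠ ⊥) :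
    ∃ M R, MaxLocal M R ∧ normalizer (K₀ : Set G) ≤ M := by
  obtain ⟨K₁, ⟨hK₁, hK₁ne, hle⟩, hmax⟩ := Set.exists_max_image
    {K : Subgroup G | IsPGroup 2 ↥K ∧ K ≠ ⊥ ∧ normalizer (K₀ : Set G) ≤ normalizer (K : Set G)}
    (fun K => Nat.card ↥(normalizer (K : Set G))) (Set.toFinite _) ⟨K₀, hK₀, hne, le_rfl⟩
  set M := normalizer (K₁ : Set G) with hM
  obtain ⟨R, ⟨hRM, hR, hRn⟩, hRmax⟩ := Set.exists_max_image
    {R : Subgroup G | R ≤ M ∧ IsPGroup 2 ↥R ∧ M ≤ normalizer (R : Set G)}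
    (fun R => Nat.card ↥R) (Set.toFinite _) ⟨K₁, le_normalizer, hK₁, le_rfl⟩
  have ho2 : ∀ K : Subgroup G, K ≤ M → IsPGroup 2 ↥K → (∀ g ∈ M, ∀ v ∈ K, g * v * g⁻¹ ∈ K) → K ≤ R := by
    intro K hKM hK hKn
    have h1 : M ≤ normalizer (K : Set G) := fun g hg => mem_nrm (hKn g hg)
    have h2 : M ≤ normalizer ((K ⊔ R : Subgroup G) : Set G) := fun g hg => mem_nrm fun v hv => by
      have hmap : (K ⊔ R).map (MulAut.conj g).toMonoidHom ≤ K ⊔ R := by
        rw [Subgroup.map_sup]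
        refine sup_le_sup ?_ ?_
        · rintro _ ⟨w, hw, rfl⟩; exact hKn g hg w hw
        · rintro _ ⟨w, hw, rfl⟩; exact nrm_conj (hRn hg) hw
      exact hmap ⟨v, hv, rfl⟩
    have h3 := hRmax _ ⟨sup_le hKM hRM, hK.to_sup_of_normal_right' hR (hKM.trans hRn), h2⟩
    exact (eq_of_le_of_card_ge (le_sup_right : R ≤ K ⊔ R) h3) ▸ le_sup_left
  have hK₁R : K₁ ≤ R := ho2 K₁ le_normalizer hK₁ fun g hg v hv => nrm_conj hg hv
  have hRne : R ≠ ⊥ := fun e => hK₁ne (le_bot_iff.1 (e ▸ hK₁R))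
  refine ⟨M, R, ⟨hR, hRne, ?_, proper_nrm hna hK₁ hK₁ne, ho2, fun K hK hKne hMK => ?_⟩, hle⟩
  · exact (eq_of_le_of_card_ge hRn (hmax R ⟨hR, hRne, hle.trans hRn⟩)).symm
  · exact (eq_of_le_of_card_ge hMK (hmax K ⟨hK, hKne, hle.trans hMK⟩)).symm

variable (hsmall : SmallSimple.{u} (Nat.card G)) (hno : NoFour G)
include h hna hsmall hno

/-- A maximal 2-subgroup of a maximal local subgroup is a Sylow subgroup of the whole group. -/
theorem sylow_of_local {M R T₀ : Subgroup G} (L : MaxLocal M R) (hT₀M : T₀ ≤ M) (hT₀ : IsPGroup 2 ↥T₀) :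
    ∃ S : Sylow 2 G, T₀ ≤ (S : Subgroup G) ∧ (S : Subgroup G) ≤ M := by
  haveI : Fact (Nat.Prime 2) := ⟨Nat.prime_two⟩
  obtain ⟨T, hT₀T, hTM, hT, hTmax⟩ := exists_max_two hT₀M hT₀
  obtain ⟨S, hTS⟩ := hT.exists_le_sylow
  rcases eq_or_lt_of_le hTS with e | hlt
  · exact ⟨S, e ▸ hT₀T, e ▸ hTM⟩
  exfalso
  haveI := S.2.isNilpotent
  have hsub : T.subgroupOf (S : Subgroup G) < ⊤ := lt_top_iff_ne_top.2 fun e =>
    hlt.not_ge (subgroupOf_eq_top.1 e)
  obtain ⟨s', hs'n, hs'T⟩ := SetLike.exists_of_lt (normalizerCondition_of_isNilpotent _ hsub)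
  set s : G := (s' : G)
  have hsT : s ∉ T := hs'T
  have hsn : ∀ v ∈ T, s * v * s⁻¹ ∈ T := fun v hv => nrm_conj hs'n (v := ⟨v, hTS hv⟩) hv
  have hsM : s ∉ M := by
    intro hsM
    have h1 := hTmax (T ⊔ zpowers s) (sup_le hTM (zpowers_le.2 hsM))
      (S.2.to_le (sup_le hTS (zpowers_le.2 s'.2))) le_sup_left
    exact hsT (h1 ▸ mem_sup_right (mem_zpowers s))
  have hRT : R ≤ T := L.le_sylow hTM hT hTmax
  by_cases hTR : T ≤ R
  · exact hsM (L.norm.le (mem_nrm fun v hv => hTR (hsn v (hRT hv))))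
  set c : G ≃* G := MulAut.conj s
  set M' := M.map c.toMonoidHom
  set R' := R.map c.toMonoidHom
  have hne : M ≠ M' := fun e => hsM (L.self_norm fun m hm => e ▸ ⟨m, hm, rfl⟩)
  have hRT' : R' ≤ T := by
    rintro _ ⟨v, hv, rfl⟩
    exact hsn v (hRT hv)
  have hTM' : T ≤ M' := fun v hv => by
    refine conj_mem_map.2 (hTM ?_)
    have := nrm_conj (inv_mem (mem_nrm hsn)) hv
    rwa [inv_inv] at this
  have hTR' : ¬ T ≤ R' := fun hle => hTR fun v hv => by
    have h1 := conj_mem_map.1 (hle (hsn v hv))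
    simpa [mul_assoc] using h1
  obtain ⟨V, -, h4, hsq, hC⟩ := amalgam h hsmall L (L.map c) hne hT hTM hTM' hRT hRT' hTR hTR'
  exact hno V h4 hsq hC

/-- Two maximal local subgroups containing a common Sylow subgroup coincide. -/
theorem unique_local (S : Sylow 2 G) {M₁ R₁ M₂ R₂ : Subgroup G} (L₁ : MaxLocal M₁ R₁) (L₂ : MaxLocal M₂ R₂)
    (hS₁ : (S : Subgroup G) ≤ M₁) (hS₂ : (S : Subgroup G) ≤ M₂) : M₁ = M₂ := by
  have key : ∀ {M R : Subgroup G}, MaxLocal M R → (S : Subgroup G) ≤ M → R ≤ (S : Subgroup G) := fun L hS =>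
    L.le_sylow hS S.2 fun T' _ hT' hle => S.is_maximal' hT' hle
  have closed : ∀ {M R : Subgroup G}, MaxLocal M R → (S : Subgroup G) ≤ R → M = normalizer ((S : Subgroup G) : Set G) :=
    fun {M R} L hle => by
      rw [← L.norm, S.is_maximal' L.two hle]
  have mixed : ∀ {M R M' R' : Subgroup G}, MaxLocal M R → MaxLocal M' R' → (S : Subgroup G) ≤ M →
      ¬ (S : Subgroup G) ≤ R → (S : Subgroup G) ≤ R' → M = M' := by
    intro M R M' R' L L' hS hR hR'
    have hle : M' ≤ M := by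
      rw [closed L' hR']
      intro y hy
      by_contra hyM
      set c : G ≃* G := MulAut.conj y
      have hback : ∀ v ∈ (S : Subgroup G), y⁻¹ * v * y ∈ (S : Subgroup G) := fun v hv => by
        have := nrm_conj (inv_mem hy) hv
        rwa [inv_inv] at this
      have hne : M ≠ M.map c.toMonoidHom := fun e => hyM (L.self_norm fun m hm => e ▸ ⟨m, hm, rfl⟩)
      obtain ⟨V, -, h4, hsq, hC⟩ := amalgam h hsmall L (L.map c) hne S.2 hS
        (fun v hv => conj_mem_map.2 (hS (hback v hv))) (key L hS)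
        (by rintro _ ⟨v, hv, rfl⟩; exact nrm_conj hy (key L hS hv)) hR
        (fun hle => hR fun v hv => by
          simpa [mul_assoc] using conj_mem_map.1 (hle (nrm_conj hy hv)))
      exact hno V h4 hsq hC
    have h1 := L'.max R L.two L.ne (hle.trans L.norm.ge)
    rw [L.norm] at h1
    exact h1
  by_cases h1 : (S : Subgroup G) ≤ R₁
  · by_cases h2 : (S : Subgroup G) ≤ R₂
    · rw [closed L₁ h1, closed L₂ h2]
    · exact (mixed L₂ L₁ hS₂ h2 h1).symm
  · by_cases h2 : (S : Subgroup G) ≤ R₂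
    · exact mixed L₁ L₂ hS₁ h1 h2
    · by_contra hne
      obtain ⟨V, -, h4, hsq, hC⟩ := amalgam h hsmall L₁ L₂ hne S.2 hS₁ hS₂ (key L₁ hS₁) (key L₂ hS₂) h1 h2
      exact hno V h4 hsq hC

/-- Without self-centralising four-groups there is a strongly embedded Sylow normaliser. -/
theorem exists_strong : ∃ (M S : Subgroup G) (q : ℕ) (x : G), Strong M S q x := by
  classical
  haveI : Fact (Nat.Prime 2) := ⟨Nat.prime_two⟩
  have hev := Cfsg.Lib.SelfCentNC.card_even hna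
  obtain ⟨S⟩ : Nonempty (Sylow 2 G) := inferInstance
  have hSne : (S : Subgroup G) ≠ ⊥ := S.ne_bot_of_dvd_card hev
  obtain ⟨M, R, L, hNS⟩ := exists_maxLocal hna S.2 hSne
  have hSM : (S : Subgroup G) ≤ M := le_normalizer.trans hNS
  -- all maximal local subgroups are conjugate
  have conjTo : ∀ {M' R' : Subgroup G}, MaxLocal M' R' → ∃ k : G, M' = M.map (MulAut.conj k).toMonoidHom := by
    intro M' R' L'
    obtain ⟨P, -, hPM⟩ := sylow_of_local h hna hsmall hno L' bot_le IsPGroup.of_bot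
    obtain ⟨k, hk⟩ := MulAction.exists_smul_eq G S P
    refine ⟨k, unique_local h hna hsmall hno P L' (L.map (MulAut.conj k)) hPM ?_⟩
    rw [← hk, Sylow.coe_subgroup_smul]
    rintro _ ⟨v, hv, rfl⟩
    exact ⟨v, hSM hv, rfl⟩
  have mapeq : ∀ k : G, M.map (MulAut.conj k).toMonoidHom = M → k ∈ M := fun k e =>
    L.self_norm fun m hm => e ▸ ⟨m, hm, rfl⟩
  -- strong embedding
  have hse : ∀ g : G, g ∉ M → ∀ v : G, orderOf v = 2 → v ∈ M → g⁻¹ * v * g ∉ M := by
    intro g₀ hg₀ v hv hvM hgv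
    obtain ⟨D, ⟨hD, hDM, g, hg, hDg⟩, hDmax⟩ := Set.exists_max_image
      {D : Subgroup G | IsPGroup 2 ↥D ∧ D ≤ M ∧ ∃ g ∉ M, D ≤ M.map (MulAut.conj g).toMonoidHom}
      (fun D => Nat.card ↥D) (Set.toFinite _)
      ⟨zpowers v, IsPGroup.of_card (n := 1) (by rw [Nat.card_zpowers, hv, pow_one]), zpowers_le.2 hvM,
        g₀, hg₀, zpowers_le.2 (conj_mem_map.2 hgv)⟩
    have hDne : D ≠ ⊥ := by
      intro e
      have h1 : Nat.card ↥(zpowers v) ≤ Nat.card ↥D :=
        hDmax _ ⟨IsPGroup.of_card (n := 1) (by rw [Nat.card_zpowers, hv, pow_one]), zpowers_le.2 hvM,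
          g₀, hg₀, zpowers_le.2 (conj_mem_map.2 hgv)⟩
      rw [Nat.card_zpowers, hv, e, card_bot] at h1
      omega
    have hnS : ∀ P : Sylow 2 G, (P : Subgroup G) ≠ D := by
      intro P e
      have key := unique_local h hna hsmall hno P L (L.map (MulAut.conj g)) (e ▸ hDM) (e ▸ hDg)
      exact hg (mapeq g key.symm)
    have grow : ∀ {M' R' : Subgroup G}, MaxLocal M' R' → D ≤ M' →
        ∃ s, s ∈ M' ∧ s ∉ D ∧ s ∈ normalizer (D : Set G) ∧ IsPGroup 2 ↥(D ⊔ zpowers s) := by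
      intro M' R' L' hD'
      obtain ⟨P, hDP, hPM⟩ := sylow_of_local h hna hsmall hno L' hD' hD
      haveI := P.2.isNilpotent
      have hlt : D < (P : Subgroup G) := lt_of_le_of_ne hDP fun e => hnS P e.symm
      have hsub : D.subgroupOf (P : Subgroup G) < ⊤ := lt_top_iff_ne_top.2 fun e =>
        hlt.not_ge (subgroupOf_eq_top.1 e)
      obtain ⟨s, hsn, hsD⟩ := SetLike.exists_of_lt (normalizerCondition_of_isNilpotent _ hsub)
      exact ⟨s, hPM s.2, hsD, mem_nrm fun w hw => nrm_conj hsn (v := ⟨w, hDP hw⟩) hw,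
        P.2.to_le (sup_le hDP (zpowers_le.2 s.2))⟩
    have bigger : ∀ {s k : G}, s ∉ D → IsPGroup 2 ↥(D ⊔ zpowers s) → D ⊔ zpowers s ≤ M →
        D ⊔ zpowers s ≤ M.map (MulAut.conj k).toMonoidHom → k ∈ M := by
      intro s k hs hp h1 h2
      by_contra hk
      have h3 := hDmax _ ⟨hp, h1, k, hk, h2⟩
      exact hs ((eq_of_le_of_card_ge (le_sup_left : D ≤ D ⊔ zpowers s) h3).ge (mem_sup_right (mem_zpowers s)))
    obtain ⟨M₁, R₁, L₁, hND⟩ := exists_maxLocal hna hD hDne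
    obtain ⟨k, rfl⟩ := conjTo L₁
    have hDk : D ≤ M.map (MulAut.conj k).toMonoidHom := le_normalizer.trans hND
    obtain ⟨s, hsM, hsD, hsn, hp⟩ := grow L hDM
    have hk := bigger hsD hp (sup_le hDM (zpowers_le.2 hsM)) (sup_le hDk (zpowers_le.2 (hND hsn)))
    have hkeq : M.map (MulAut.conj k).toMonoidHom = M := by
      ext w
      rw [conj_mem_map]
      exact ⟨fun hw => by simpa [mul_assoc] using M.mul_mem (M.mul_mem hk hw) (inv_mem hk),
        fun hw => M.mul_mem (M.mul_mem (inv_mem hk) hw) hk⟩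
    rw [hkeq] at hND
    obtain ⟨t, htM, htD, htn, hp'⟩ := grow (L.map (MulAut.conj g)) hDg
    exact hg (bigger htD hp' (sup_le hDM (zpowers_le.2 (hND htn))) (sup_le hDg (zpowers_le.2 htM)))
  have hfus : ∀ g v : G, orderOf v = 2 → v ∈ M → g⁻¹ * v * g ∈ M → g ∈ M := fun g v hv hvM hgv => by
    by_contra hg
    exact hse g hg v hv hvM hgv
  have hcent : ∀ v g : G, orderOf v = 2 → v ∈ M → Commute g v → g ∈ M := fun v g hv hvM hgv =>
    hfus g v hv hvM (by rwa [mul_assoc, ← hgv.eq, inv_mul_cancel_left])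
  -- involutions
  obtain ⟨z, hzS, hz, hzc⟩ := exists_central S.2 hSne
  have hzM := hSM hzS
  have hconjM : ∀ v : G, orderOf v = 2 → ∃ c : G, c⁻¹ * v * c ∈ M ∧ orderOf (c⁻¹ * v * c) = 2 := fun v hv => by
    obtain ⟨P, hP⟩ := IsPGroup.exists_le_sylow (IsPGroup.of_card (n := 1) (by rw [Nat.card_zpowers, hv, pow_one]) :
      IsPGroup 2 ↥(zpowers v))
    obtain ⟨c, hc⟩ := MulAction.exists_smul_eq G S P
    refine ⟨c, ?_, ?_⟩
    · have h1 := hP (mem_zpowers v)
      rw [← hc, Sylow.coe_subgroup_smul] at h1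
      obtain ⟨w, hw, e⟩ := h1
      rw [← e]
      simpa [mul_assoc] using hSM hw
    · have : c⁻¹ * v * c = MulAut.conj c⁻¹ v := by simp
      rw [this, MulEquiv.orderOf_eq, hv]
  obtain ⟨w, hw, hwM⟩ : ∃ w : G, orderOf w = 2 ∧ w ∉ M := by
    by_contra hcon
    push Not at hcon
    refine L.proper (top_le_iff.1 fun g _ => hfus g z hz hzM (hcon _ ?_))
    have : g⁻¹ * z * g = MulAut.conj g⁻¹ z := by simp
    rw [this, MulEquiv.orderOf_eq, hz]
  have hsq : ∀ {v : G}, orderOf v = 2 → v * v = 1 := fun hv => by rw [← pow_two, ← hv, pow_orderOf_eq_one]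
  have hinw : ∀ v : G, orderOf v = 2 → v ∈ M → IsConj w v := by
    intro v hv hvM
    refine conj_of_odd (hsq hv) (hsq hw) ?_
    by_contra hodd
    rw [Nat.not_odd_iff_even, even_iff_two_dvd] at hodd
    set a := v * w
    set c := a ^ (orderOf a / 2)
    have hc : orderOf c = 2 := orderOf_pow_orderOf_div (orderOf_pos a).ne' hodd
    have hci : c⁻¹ = c := inv_eq_of_mul_eq_one_right (hsq hc)
    have hvi : v⁻¹ = v := inv_eq_of_mul_eq_one_right (hsq hv)
    have hwi : w⁻¹ = w := inv_eq_of_mul_eq_one_right (hsq hw)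
    have hva : v * a * v⁻¹ = a⁻¹ := by
      simp only [a]
      rw [mul_inv_rev, hvi, hwi, ← mul_assoc, hsq hv, one_mul]
    have hwa : w * a * w⁻¹ = a⁻¹ := by
      simp only [a]
      rw [mul_inv_rev, hvi, hwi, show w * (v * w) * w = w * v * (w * w) by group, hsq hw, mul_one]
    have hcm : ∀ y : G, y * a * y⁻¹ = a⁻¹ → Commute y c := fun y hy => by
      have : y * c * y⁻¹ = c := by rw [← conj_pow, hy, inv_pow, hci]
      exact mul_inv_eq_iff_eq_mul.1 this
    exact hwM (hcent c w hc (hcent v c hv hvM (hcm v hva).symm) (hcm w hwa))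
  have hall : ∀ v : G, orderOf v = 2 → IsConj v z := fun v hv => by
    obtain ⟨c, hcM, hco⟩ := hconjM v hv
    exact (isConj_iff.2 ⟨c⁻¹, by rw [inv_inv]⟩ : IsConj v (c⁻¹ * v * c)).trans
      ((hinw _ hco hcM).symm.trans (hinw z hz hzM))
  have hinM : ∀ v : G, orderOf v = 2 → v ∈ M → ∃ m ∈ M, v = m * z * m⁻¹ := fun v hv hvM => by
    obtain ⟨c, hc⟩ := isConj_iff.1 (hall v hv).symm
    exact ⟨c, hfus c v hv hvM (by rw [← hc]; simpa [mul_assoc] using hzM), hc.symm⟩
  -- the subgroup is closed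
  have hRS : R ≤ (S : Subgroup G) := L.le_sylow hSM S.2 fun T' _ hT' hle => S.is_maximal' hT' hle
  have hSR : (S : Subgroup G) ≤ R := by
    by_contra hSR
    haveI := L.normal
    obtain ⟨q, x, hl⟩ := L.exists_loc h hsmall hSM hSR
    haveI := Fact.mk hl.prime
    set K := R.subgroupOf M
    set π := QuotientGroup.mk' K
    have hK2 : IsPGroup 2 ↥K := L.two.comap_of_injective M.subtype M.subtype_injective
    set X : Subgroup ↥M := (zpowers (π x)).comap π
    haveI : (zpowers (π x)).Normal := ⟨by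
      rintro _ ⟨i, rfl⟩ y
      obtain ⟨y, rfl⟩ := QuotientGroup.mk'_surjective K y
      obtain ⟨k, hk⟩ := hl.conj y
      show π y * π x ^ i * (π y)⁻¹ ∈ _
      rw [← conj_zpow, ← map_inv, ← map_mul, ← map_mul, show π (y * x * y⁻¹) = π (x ^ k) from hk, map_pow]
      exact zpow_mem (pow_mem (mem_zpowers _) _) _⟩
    haveI : X.Normal := Subgroup.Normal.comap inferInstance _
    have hxX : x ∈ X := mem_zpowers (π x)
    have hcx : Nat.card ↥(zpowers x) = q := by rw [Nat.card_zpowers, hl.ord]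
    have hP : IsPGroup q ↥((zpowers x).subgroupOf X) :=
      (IsPGroup.of_card (n := 1) (by rw [hcx, pow_one]) : IsPGroup q ↥(zpowers x)).comap_of_injective _
        X.subtype_injective
    have hcP : Nat.card ↥((zpowers x).subgroupOf X) = q := by
      rw [Nat.card_congr (subgroupOfEquivOfLe (zpowers_le.2 hxX)).toEquiv, hcx]
    set P := hP.toSylow (fun hd => hl.not_sq (by
      have h1 := ((zpowers x).subgroupOf X).card_mul_index
      rw [hcP] at h1
      rw [pow_two]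
      exact (mul_dvd_mul_left q hd).trans (h1 ▸ X.card_subgroup_dvd_card)))
    have hfr := Sylow.normalizer_sup_eq_top P
    rw [IsPGroup.toSylow_coe, subgroupOf_map_subtype, inf_of_le_left (zpowers_le.2 hxX)] at hfr
    obtain ⟨t, htS, htR⟩ := SetLike.not_le_iff_exists.1 hSR
    obtain ⟨n, hn, hnX⟩ := SetLike.not_le_iff_exists.1
      (show ¬ normalizer ((zpowers x : Subgroup ↥M) : Set ↥M) ≤ X from fun hle => by
        have h1 : (⟨t, hSM htS⟩ : ↥M) ∈ X := (hfr.ge.trans (sup_le hle le_rfl)) (mem_top _)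
        obtain ⟨k, hk⟩ := mem_powers_iff_mem_zpowers.2 h1
        exact htR (hl.not_two_dvd_of_mem L.two S.2 (t := ⟨t, hSM htS⟩) (k := k) htS
          (show π _ = π (x ^ k) by rw [map_pow]; exact hk.symm)))
    -- the order of this element is even
    have heven : 2 ∣ orderOf n := by
      rcases h.subgroup M n with ⟨k, hk⟩ | ⟨hp, -⟩
      · rcases k with _ | k
        · exact absurd (orderOf_eq_one_iff.1 (by simpa using hk) ▸ X.one_mem) hnX
        · exact hk ▸ dvd_pow_self 2 (by omega)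
      · rcases hl.primes _ hp (orderOf_dvd_natCard n) with e | e
        · rw [e]
        exfalso
        have hsup : IsPGroup q ↥(zpowers n ⊔ zpowers x) :=
          (IsPGroup.of_card (n := 1) (by rw [Nat.card_zpowers, e, pow_one]) : IsPGroup q ↥(zpowers n)).to_sup_of_normal_right'
            (IsPGroup.of_card (n := 1) (by rw [hcx, pow_one])) (zpowers_le.2 hn)
        obtain ⟨a, ha⟩ := IsPGroup.iff_card.1 hsup
        have hle : Nat.card ↥(zpowers n ⊔ zpowers x) ≤ q := by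
          rw [ha]
          rcases a with _ | _ | a
          · rw [pow_zero]; exact hl.prime.one_le
          · rw [pow_one]
          · exact absurd ((pow_dvd_pow q (by omega : 2 ≤ a + 2)).trans (ha ▸ Subgroup.card_subgroup_dvd_card _)) hl.not_sq
        have h1 := eq_of_le_of_card_ge (le_sup_right : zpowers x ≤ zpowers n ⊔ zpowers x) (hle.trans hcx.ge)
        exact hnX (zpowers_le.2 hxX (h1 ▸ mem_sup_left (mem_zpowers n) : n ∈ zpowers x))
    set i : ↥M := n ^ (orderOf n / 2)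
    have hi : orderOf i = 2 := orderOf_pow_orderOf_div (orderOf_pos n).ne' heven
    have hin : i ∈ normalizer ((zpowers x : Subgroup ↥M) : Set ↥M) := pow_mem hn _
    have hiR : (i : G) ∉ R := by
      intro hiR
      have h1 : i * x * i⁻¹ * x⁻¹ ∈ zpowers x := mul_mem (nrm_conj hin (mem_zpowers x)) (inv_mem (mem_zpowers x))
      have h2 : i * x * i⁻¹ * x⁻¹ ∈ K := by
        rw [show i * x * i⁻¹ * x⁻¹ = i * (x * i⁻¹ * x⁻¹) by group]
        exact K.mul_mem hiR ((inferInstance : K.Normal).conj_mem _ (inv_mem hiR) x)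
      have h3 : i * x * i⁻¹ * x⁻¹ = 1 := by
        have hd := orderOf_dvd_of_mem_zpowers h1
        rw [hl.ord] at hd
        obtain ⟨j, hj⟩ := IsPGroup.iff_orderOf.1 hK2 ⟨_, h2⟩
        rw [orderOf_mk] at hj
        exact orderOf_eq_one_iff.1 (Nat.eq_one_of_dvd_coprimes (Nat.Coprime.pow_right j
          ((hl.prime.coprime_iff_not_dvd).2 fun hd2 =>
            hl.odd ((Nat.prime_dvd_prime_iff_eq hl.prime Nat.prime_two).1 hd2))) hd (hj ▸ dvd_rfl))
      rw [mul_inv_eq_one, mul_inv_eq_iff_eq_mul] at h3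
      exact hl.odd ((h.subgroup M).same_prime h3 Nat.prime_two hl.prime (by rw [hi]) (by rw [hl.ord])).symm
    obtain ⟨a, haR, ha, -⟩ := exists_central L.two L.ne
    obtain ⟨m₁, hm₁, e₁⟩ := hinM a ha (L.le haR)
    obtain ⟨m₂, hm₂, e₂⟩ := hinM (i : G) (by rw [orderOf_coe, hi]) i.2
    refine hiR ?_
    rw [e₂, show m₂ * z * m₂⁻¹ = (m₂ * m₁⁻¹) * a * (m₂ * m₁⁻¹)⁻¹ by rw [e₁]; group]
    exact L.conjR (M.mul_mem hm₂ (inv_mem hm₁)) haR
  have hRS' : R = (S : Subgroup G) := le_antisymm hRS hSR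
  have hnorm : ∀ m ∈ M, ∀ v ∈ (S : Subgroup G), m * v * m⁻¹ ∈ (S : Subgroup G) := fun m hm v hv =>
    hRS' ▸ L.conjR hm (hRS'.symm ▸ hv)
  have hinv : ∀ v : G, orderOf v = 2 → v ∈ M → v ∈ (S : Subgroup G) ∧ ∀ s ∈ (S : Subgroup G), Commute v s := by
    intro v hv hvM
    obtain ⟨m, hm, rfl⟩ := hinM v hv hvM
    refine ⟨hnorm m hm z hzS, fun s hs => ?_⟩
    have hback : m⁻¹ * s * m ∈ (S : Subgroup G) := by simpa using hnorm m⁻¹ (inv_mem hm) s hs
    have := (hzc _ hback).map (MulAut.conj m).toMonoidHom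
    simpa [mul_assoc] using this
  -- the index of the Sylow subgroup
  haveI := L.normal
  have hMne : M ≠ R := by
    intro e
    refine Cfsg.Lib.SelfCentNC.exists_two_involutions hna S fun a b ha hb => ?_
    have hkey : ∀ v : G, orderOf v = 2 → v ∈ (S : Subgroup G) → v = z := fun v hv hvS => by
      obtain ⟨m, hm, rfl⟩ := hinM v hv (hSM hvS)
      rw [(hzc m (hRS' ▸ e ▸ hm)).symm.eq, mul_inv_cancel_right]
    rw [show b = a from Subtype.ext ((hkey _ (by rw [orderOf_coe, hb]) b.2).trans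
      (hkey _ (by rw [orderOf_coe, ha]) a.2).symm)]
    exact mem_zpowers a
  obtain ⟨q, x, hl⟩ := PrimePowerOrders.exists_loc h hsmall L.proper L.le L.two L.ne L.o2 hMne
  haveI := Fact.mk hl.prime
  refine ⟨M, S, q, x, ⟨S.2, hSne, hSM, hnorm, L.proper, fun g hg => L.self_norm hg, hl.prime, hl.odd, x.2,
    by rw [orderOf_coe, hl.ord], ?_, hinv, hcent, hse, fun v w hv hw => (hall v hv).trans (hall w hw).symm⟩⟩
  have hidx : (((S : Subgroup G)).subgroupOf M).index * Nat.card ↥(S : Subgroup G) = Nat.card ↥M := by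
    rw [← Nat.card_congr (subgroupOfEquivOfLe hSM).toEquiv, mul_comm, card_mul_index]
  set j := (((S : Subgroup G)).subgroupOf M).index
  have hj2 : ¬ 2 ∣ j := fun hd => (S.subtype hSM).not_dvd_index (by rw [Sylow.coe_subtype]; exact hd)
  have hqj : q ∣ j := by
    refine ((Nat.Prime.dvd_mul hl.prime).1 (hidx ▸ (hl.ord ▸ orderOf_dvd_natCard x) : q ∣ j * _)).resolve_right
      fun hd => hl.odd ?_
    obtain ⟨a, ha⟩ := IsPGroup.iff_card.1 S.2
    rw [ha] at hd
    exact (Nat.prime_dvd_prime_iff_eq hl.prime Nat.prime_two).1 (hl.prime.dvd_of_dvd_pow hd)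
  have hjd : j ∣ Nat.card ↥M := ⟨_, hidx.symm⟩
  obtain ⟨b, hb⟩ := hqj
  have hb1 : b = 1 := by
    by_contra hb1
    obtain ⟨r, hr, hrb⟩ := Nat.exists_prime_and_dvd hb1
    rcases hl.primes r hr ((hrb.trans ⟨q, by rw [hb, mul_comm]⟩).trans hjd) with rfl | rfl
    · exact hj2 ((hrb.trans ⟨q, by rw [hb, mul_comm]⟩))
    · exact hl.not_sq (dvd_trans (by rw [pow_two, hb]; exact mul_dvd_mul_left _ hrb) hjd)
  rw [← hidx, hb, hb1, mul_one, mul_comm]

end

end Cfsg.Lib.PrimePowerOrders
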