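import Cfsg.Agent.PrimePowerOrders.Locals

/-!
Two maximal local subgroups for the prime two with a common Sylow subgroup: a self-centralising four-group.
-/

set_option autoImplicit false
set_option linter.unusedSectionVars false
set_option linter.style.haveILetI false

namespace Cfsg.Lib.PrimePowerOrders

open Subgroup

universe u

variable {G : Type u} [Group G] [Finite G]

theorem mem_nrm {K : Subgroup G} {g : G} (hg : ∀ v ∈ K, g * v * g⁻¹ ∈ K) : g ∈ normalizer (K : Set G) := by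
  refine mem_normalizer_iff.2 fun v => ⟨hg v, fun hv => ?_⟩
  have h1 := pow_normalises K hg (orderOf g - 1) _ hv
  rw [show g ^ (orderOf g - 1) = g⁻¹ from eq_inv_of_mul_eq_one_left (by
    rw [← pow_succ, Nat.sub_add_cancel (orderOf_pos g), pow_orderOf_eq_one])] at h1
  rwa [show g⁻¹ * (g * v * g⁻¹) * g⁻¹⁻¹ = v by group] at h1

theorem nrm_conj {K : Subgroup G} {g : G} (hg : g ∈ normalizer (K : Set G)) {v : G} (hv : v ∈ K) :
    g * v * g⁻¹ ∈ K := (mem_normalizer_iff.1 hg v).1 hv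

/-- A maximal local subgroup for the prime two with its largest normal 2-subgroup. -/
structure MaxLocal (M R : Subgroup G) : Prop where
  two : IsPGroup 2 ↥R
  ne : R ≠ ⊥
  norm : normalizer (R : Set G) = M
  proper : M ≠ ⊤
  o2 : ∀ K : Subgroup G, K ≤ M → IsPGroup 2 ↥K → (∀ g ∈ M, ∀ v ∈ K, g * v * g⁻¹ ∈ K) → K ≤ R
  max : ∀ K : Subgroup G, IsPGroup 2 ↥K → K ≠ ⊥ → M ≤ normalizer (K : Set G) → normalizer (K : Set G) = M

namespace MaxLocal

variable {M R : Subgroup G} (L : MaxLocal M R)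
include L

theorem le : R ≤ M := by
  rw [← L.norm]
  exact le_normalizer

theorem normal : (R.subgroupOf M).Normal :=
  normal_subgroupOf_of_le_normalizer L.norm.ge

theorem conjR {g : G} (hg : g ∈ M) {v : G} (hv : v ∈ R) : g * v * g⁻¹ ∈ R := nrm_conj (L.norm.ge hg) hv

theorem exists_loc (h : EP G) (hsmall : SmallSimple.{u} (Nat.card G)) {T : Subgroup G} (hTM : T ≤ M)
    (hTR : ¬ T ≤ R) :
    ∃ (q : ℕ) (x : ↥M), haveI := L.normal; Loc M R q x := by
  haveI := L.normal
  exact PrimePowerOrders.exists_loc h hsmall L.proper L.le L.two L.ne L.o2 fun e => hTR (e ▸ hTM)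

/-- the largest normal 2-subgroup lies in every maximal 2-subgroup -/
theorem le_sylow {T : Subgroup G} (hTM : T ≤ M) (hT : IsPGroup 2 ↥T)
    (hmax : ∀ T' : Subgroup G, T' ≤ M → IsPGroup 2 ↥T' → T ≤ T' → T' = T) : R ≤ T := by
  have h1 := hmax (T ⊔ R) (sup_le hTM L.le) (hT.to_sup_of_normal_right' L.two (hTM.trans L.norm.ge)) le_sup_left
  exact h1 ▸ le_sup_right

theorem omega_normal {g : G} (hg : g ∈ M) {w : G} (hw : w ∈ omega R) : g * w * g⁻¹ ∈ omega R :=
  omega_normalises (fun _ hv => L.conjR hg hv) (fun v hv => by simpa using L.conjR (inv_mem hg) hv) hw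

end MaxLocal

section

variable (h : EP G)
include h

/-- An element of odd prime order fixes no coset of a 2-subgroup it normalises other than that subgroup. -/
theorem EP.fixed_mem {K : Subgroup G} (hK : IsPGroup 2 ↥K) {x w : G} {q : ℕ} (hq : q.Prime) (hq2 : q ≠ 2)
    (hx : orderOf x = q) (hxn : x ∈ normalizer (K : Set G)) (hwn : w ∈ normalizer (K : Set G))
    (hw : ∃ k, orderOf w = 2 ^ k) (hc : x * w * x⁻¹ * w⁻¹ ∈ K) : w ∈ K := by
  set N := normalizer (K : Set G)
  haveI : (K.subgroupOf N).Normal := normal_subgroupOf_of_le_normalizer le_rfl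
  set π := QuotientGroup.mk' (K.subgroupOf N)
  set x' : ↥N := ⟨x, hxn⟩
  set w' : ↥N := ⟨w, hwn⟩
  have hcomm : Commute (π x') (π w') := by
    have h1 : π (x' * w' * x'⁻¹ * w'⁻¹) = 1 := (QuotientGroup.eq_one_iff _).2 hc
    rw [map_mul, map_mul, map_mul, map_inv, map_inv, mul_inv_eq_one, mul_inv_eq_iff_eq_mul] at h1
    exact h1
  have hx1 : orderOf (π x') = q := by
    refine ((Nat.dvd_prime hq).1 ?_).resolve_left fun e => ?_
    · rw [← hx]
      exact (orderOf_map_dvd π x').trans (by rw [← orderOf_coe x'])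
    · have hxK : x ∈ K := (QuotientGroup.eq_one_iff x').1 (orderOf_eq_one_iff.1 e)
      obtain ⟨j, hj⟩ := IsPGroup.iff_orderOf.1 hK ⟨x, hxK⟩
      rw [orderOf_mk, hx] at hj
      exact hq2 ((Nat.prime_dvd_prime_iff_eq hq Nat.prime_two).1 (hq.dvd_of_dvd_pow (dvd_of_eq hj)))
  obtain ⟨k, hk⟩ := hw
  have hd : orderOf (π w') ∣ 2 ^ k := hk ▸ (orderOf_map_dvd π w').trans (by rw [← orderOf_coe w'])
  obtain ⟨j, -, hj⟩ := (Nat.dvd_prime_pow Nat.prime_two).1 hd
  rcases j with _ | j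
  · rw [pow_zero, orderOf_eq_one_iff] at hj
    exact (QuotientGroup.eq_one_iff w').1 hj
  · exact absurd (((h.subgroup N).quotient _).same_prime hcomm hq Nat.prime_two (by rw [hx1])
      (hj ▸ dvd_pow_self 2 (by omega))) hq2

variable (hsmall : SmallSimple.{u} (Nat.card G))
include hsmall

/-- With a large central elementary subgroup, the maximal elementary abelian subgroups of a Sylow subgroup lie
in the largest normal 2-subgroup. -/
theorem elem_le {M R T : Subgroup G} (L : MaxLocal M R) (hT : IsPGroup 2 ↥T) (hTM : T ≤ M) (hRT : R ≤ T)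
    (hTR : ¬ T ≤ R) (hV : 4 < Nat.card ↥(omega R)) {A : Subgroup G} (hAT : A ≤ T)
    (hA : ∀ a ∈ A, a * a = 1 ∧ ∀ b ∈ A, Commute a b)
    (hAmax : ∀ B : Subgroup G, B ≤ T → (∀ a ∈ B, a * a = 1 ∧ ∀ b ∈ B, Commute a b) → Nat.card ↥B ≤ Nat.card ↥A) :
    A ≤ R := by
  classical
  haveI := L.normal
  obtain ⟨q, x, hl⟩ := L.exists_loc h hsmall hTM hTR
  by_contra hcon
  obtain ⟨a, haA, haR⟩ := SetLike.not_le_iff_exists.1 hcon
  set V := omega R
  set A0 := A ⊓ R
  set C := V ⊓ centralizer ({a} : Set G)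
  have hA0 : Nat.card ↥A ≤ 2 * Nat.card ↥A0 := by
    let f : ↥A → ↥A0 × Bool := fun b => if hb : (b : G) ∈ R then (⟨b, b.2, hb⟩, true)
      else (⟨(b : G) * a, A.mul_mem b.2 haA,
        hl.mul_mem_of L.two hT hTM (hAT b.2) (hAT haA) hb haR (Or.inr ⟨(hA b b.2).1, (hA a haA).1⟩)⟩, false)
    have hf : Function.Injective f := by
      intro b c e
      simp only [f] at e
      split_ifs at e with hb hc hc <;> simp only [Prod.mk.injEq] at e
      · exact Subtype.ext (congrArg (fun z : ↥A0 => (z : G)) e.1)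
      · exact absurd e.2 Bool.noConfusion
      · exact absurd e.2 Bool.noConfusion
      · exact Subtype.ext (mul_right_cancel (congrArg (fun z : ↥A0 => (z : G)) e.1))
    refine (Nat.card_le_card_of_injective f hf).trans (le_of_eq ?_)
    rw [Nat.card_prod, Nat.card_eq_fintype_card (α := Bool), Fintype.card_bool, mul_comm]
  -- the centraliser is small
  have hC : Nat.card ↥C * Nat.card ↥C ≤ Nat.card ↥V := by
    rw [← Nat.card_prod]
    have hxM := x.2
    let f : ↥C × ↥C → ↥V := fun c => ⟨(c.1 : G) * ((x : G) * c.2 * (x : G)⁻¹),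
      V.mul_mem c.1.2.1 (L.omega_normal hxM c.2.2.1)⟩
    refine Nat.card_le_card_of_injective f ?_
    rintro ⟨c, d⟩ ⟨c', d'⟩ e
    have e' : (c : G) * ((x : G) * d * (x : G)⁻¹) = c' * ((x : G) * d' * (x : G)⁻¹) := congrArg Subtype.val e
    set v : G := (c' : G)⁻¹ * c with hv
    have hv2 : v = (x : G) * ((d' : G) * (d : G)⁻¹) * (x : G)⁻¹ := by
      rw [hv, show (c : G) = c' * ((x : G) * d' * (x : G)⁻¹) * ((x : G) * d * (x : G)⁻¹)⁻¹ from
        eq_mul_inv_of_mul_eq e']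
      group
    have hca : ∀ y : ↥C, Commute (y : G) a := fun y => mem_centralizer_singleton_iff.1 y.2.2
    have hcc : Commute ((c' : G)⁻¹ * c) a := (hca c').inv_left.mul_left (hca c)
    have hdd : Commute ((d' : G) * (d : G)⁻¹) a := (hca d').mul_left (hca d).inv_left
    have hv1 : v = 1 := by
      refine hl.fixed_eq_one L.two h hT (t := ⟨a, hTM (hAT haA)⟩) (hAT haA) haR ?_ hcc ?_
      · obtain ⟨j, hj⟩ := IsPGroup.iff_orderOf.1 L.two
          ⟨v, omega_le R (V.mul_mem (inv_mem c'.2.1) c.2.1)⟩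
        exact ⟨j, by rwa [orderOf_mk] at hj⟩
      · rw [hv2]
        exact hdd.map (MulAut.conj (x : G)).toMonoidHom
    have e1 : c = c' := Subtype.ext (inv_mul_eq_one.1 hv1).symm
    have e2 : d = d' := by
      refine Subtype.ext ?_
      have := hv2.symm.trans hv1
      have h3 : (d' : G) * (d : G)⁻¹ = 1 := conj_eq_one_iff.1 this
      exact (mul_inv_eq_one.1 h3).symm
    rw [e1, e2]
  -- the elementary subgroup generated with the central one
  let B : Subgroup G :=
    { carrier := {g | ∃ v ∈ V, ∃ b ∈ A0, v * b = g}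
      one_mem' := ⟨1, V.one_mem, 1, A0.one_mem, one_mul 1⟩
      mul_mem' := by
        rintro _ _ ⟨v, hv, b, hb, rfl⟩ ⟨w, hw, c, hc, rfl⟩
        refine ⟨v * w, V.mul_mem hv hw, b * c, A0.mul_mem hb hc, ?_⟩
        rw [show v * b * (w * c) = v * (b * w) * c by group, ← (hw.2.1 b hb.2).eq]
        group
      inv_mem' := by
        rintro _ ⟨v, hv, b, hb, rfl⟩
        refine ⟨v⁻¹, inv_mem hv, b⁻¹, inv_mem hb, ?_⟩
        rw [mul_inv_rev]
        exact ((hv.2.1 b hb.2).inv_inv).eq }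
  have hBT : B ≤ T := by
    rintro _ ⟨v, hv, b, hb, rfl⟩
    exact T.mul_mem (hRT hv.1) (hAT hb.1)
  have hBel : ∀ g ∈ B, g * g = 1 ∧ ∀ g' ∈ B, Commute g g' := by
    rintro _ ⟨v, hv, b, hb, rfl⟩
    refine ⟨?_, ?_⟩
    · rw [show v * b * (v * b) = v * (b * v) * b by group, ← (hv.2.1 b hb.2).eq,
        show v * (v * b) * b = v * v * (b * b) by group, hv.2.2, (hA b hb.1).1, one_mul]
    · rintro _ ⟨w, hw, c, hc, rfl⟩
      exact ((hv.2.1 w hw.1).mul_right (hv.2.1 c hc.2)).mul_left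
        ((hw.2.1 b hb.2).symm.mul_right ((hA b hb.1).2 c hc.1))
  have hB := hAmax B hBT hBel
  have hcount : Nat.card ↥V * Nat.card ↥A0 ≤ Nat.card ↥B * Nat.card ↥C := by
    rw [← Nat.card_prod, ← Nat.card_prod]
    let μ : ↥V × ↥A0 → ↥B := fun p => ⟨(p.1 : G) * p.2, p.1, p.1.2, p.2, p.2.2, rfl⟩
    have hμ : ∀ b : ↥B, ∃ p, μ p = b := fun ⟨g, v, hv, b, hb, e⟩ => ⟨(⟨v, hv⟩, ⟨b, hb⟩), Subtype.ext e⟩
    choose sec hsec using hμ
    have hmem : ∀ p : ↥V × ↥A0, (((sec (μ p)).1 : G))⁻¹ * p.1 ∈ C := fun p => by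
      refine ⟨V.mul_mem (inv_mem (sec (μ p)).1.2) p.1.2, mem_centralizer_singleton_iff.2 ?_⟩
      have e : ((sec (μ p)).1 : G) * (sec (μ p)).2 = (p.1 : G) * p.2 := congrArg Subtype.val (hsec (μ p))
      rw [show ((sec (μ p)).1 : G)⁻¹ * p.1 = ((sec (μ p)).2 : G) * (p.2 : G)⁻¹ from by
        rw [inv_mul_eq_iff_eq_mul, ← mul_assoc, e]; group]
      exact ((hA _ (A.mul_mem (sec (μ p)).2.2.1 (inv_mem p.2.2.1))).2 a haA).eq
    let f : ↥V × ↥A0 → ↥B × ↥C := fun p => (μ p, ⟨_, hmem p⟩)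
    refine Nat.card_le_card_of_injective f fun p p' e => ?_
    have e1 : μ p = μ p' := congrArg Prod.fst e
    have e2 : ((sec (μ p)).1 : G)⁻¹ * p.1 = ((sec (μ p')).1 : G)⁻¹ * p'.1 := congrArg (fun z => ((z.2 : ↥C) : G)) e
    rw [e1] at e2
    have e3 : p.1 = p'.1 := Subtype.ext (mul_left_cancel e2)
    have e4 : (p.1 : G) * p.2 = (p'.1 : G) * p'.2 := congrArg Subtype.val e1
    rw [e3] at e4
    exact Prod.ext e3 (Subtype.ext (mul_left_cancel e4))
  have hA0pos : 0 < Nat.card ↥A0 := Nat.card_pos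
  have hCpos : 0 < Nat.card ↥C := Nat.card_pos
  have h1 : Nat.card ↥V ≤ 2 * Nat.card ↥C := by
    refine le_of_mul_le_mul_right ?_ hA0pos
    calc Nat.card ↥V * Nat.card ↥A0 ≤ Nat.card ↥B * Nat.card ↥C := hcount
      _ ≤ 2 * Nat.card ↥A0 * Nat.card ↥C := Nat.mul_le_mul_right _ (hB.trans hA0)
      _ = 2 * Nat.card ↥C * Nat.card ↥A0 := by ring
  have h2 : Nat.card ↥C ≤ 2 := le_of_mul_le_mul_right (hC.trans (h1.trans (le_of_eq (by ring)))) hCpos
  omega

/-- A maximal local subgroup with a large central elementary subgroup is the normaliser of the join of the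
maximal elementary abelian subgroups of any of its Sylow subgroups. -/
theorem eq_nrm_join {M R T : Subgroup G} (L : MaxLocal M R) (hT : IsPGroup 2 ↥T) (hTM : T ≤ M) (hRT : R ≤ T)
    (hTR : ¬ T ≤ R) (hV : 4 < Nat.card ↥(omega R)) :
    normalizer ((sSup {A : Subgroup G | A ≤ T ∧ (∀ a ∈ A, a * a = 1 ∧ ∀ b ∈ A, Commute a b) ∧
      ∀ B : Subgroup G, B ≤ T → (∀ a ∈ B, a * a = 1 ∧ ∀ b ∈ B, Commute a b) → Nat.card ↥B ≤ Nat.card ↥A} :
        Subgroup G) : Set G) = M := by
  set S : Set (Subgroup G) := {A : Subgroup G | A ≤ T ∧ (∀ a ∈ A, a * a = 1 ∧ ∀ b ∈ A, Commute a b) ∧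
      ∀ B : Subgroup G, B ≤ T → (∀ a ∈ B, a * a = 1 ∧ ∀ b ∈ B, Commute a b) → Nat.card ↥B ≤ Nat.card ↥A}
  set J : Subgroup G := sSup S
  have hle : ∀ A ∈ S, A ≤ R := fun A hA => elem_le h hsmall L hT hTM hRT hTR hV hA.1 hA.2.1 hA.2.2
  have hJR : J ≤ R := sSup_le hle
  obtain ⟨A, hAfin⟩ : ∃ A : Subgroup G, (A ≤ T ∧ ∀ a ∈ A, a * a = 1 ∧ ∀ b ∈ A, Commute a b) ∧
      ∀ B : Subgroup G, (B ≤ T ∧ ∀ a ∈ B, a * a = 1 ∧ ∀ b ∈ B, Commute a b) → Nat.card ↥B ≤ Nat.card ↥A :=
    Set.exists_max_image {B : Subgroup G | B ≤ T ∧ ∀ a ∈ B, a * a = 1 ∧ ∀ b ∈ B, Commute a b}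
      (fun B => Nat.card ↥B) (Set.toFinite _)
      ⟨omega R, (omega_le R).trans hRT, fun a ha => ⟨ha.2.2, fun b hb => ha.2.1 b hb.1⟩⟩
  have hAS : A ∈ S := ⟨hAfin.1.1, hAfin.1.2, fun B h1 h2 => hAfin.2 B ⟨h1, h2⟩⟩
  have hJne : J ≠ ⊥ := by
    intro e
    have h1 := hAfin.2 (omega R) ⟨(omega_le R).trans hRT, fun a ha => ⟨ha.2.2, fun b hb => ha.2.1 b hb.1⟩⟩
    have h2 : A ≤ ⊥ := e ▸ le_sSup hAS
    rw [le_bot_iff.1 h2, card_bot] at h1
    omega
  refine L.max J (L.two.to_le hJR) hJne fun g hg => mem_nrm fun v hv => ?_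
  have hmap : J.map (MulAut.conj g).toMonoidHom ≤ J := by
    rw [map_le_iff_le_comap]
    refine sSup_le fun B hB => map_le_iff_le_comap.1 (le_sSup ⟨?_, ?_, fun C h1 h2 => ?_⟩)
    · rintro _ ⟨b, hb, rfl⟩
      exact hRT (L.conjR hg (hle B hB hb))
    · rintro _ ⟨b, hb, rfl⟩
      refine ⟨by rw [← map_mul, (hB.2.1 b hb).1, map_one], ?_⟩
      rintro _ ⟨c, hc, rfl⟩
      exact ((hB.2.1 b hb).2 c hc).map (MulAut.conj g).toMonoidHom
    · rw [card_map_of_injective (MulAut.conj g).injective]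
      exact hB.2.2 C h1 h2
  exact hmap ⟨v, hv, rfl⟩

/-- The small case of the amalgam: a self-centralising four-group. -/
theorem small_case {M R M' R' T : Subgroup G} (L : MaxLocal M R) (L' : MaxLocal M' R') (hne : M ≠ M')
    (hT : IsPGroup 2 ↥T) (hTM : T ≤ M) (hTM' : T ≤ M') (hRT : R ≤ T) (hRT' : R' ≤ T)
    (hTR : ¬ T ≤ R) (hTR' : ¬ T ≤ R') (hV : Nat.card ↥(omega R) ≤ 4) :
    ∃ V : Subgroup G, V ≤ T ∧ Nat.card ↥V = 4 ∧ (∀ v ∈ V, v * v = 1) ∧ centralizer (V : Set G) = V := by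
  classical
  haveI : Fact (Nat.Prime 2) := ⟨Nat.prime_two⟩
  haveI := L.normal
  haveI := L'.normal
  obtain ⟨q, x, hl⟩ := L.exists_loc h hsmall hTM hTR
  obtain ⟨q', x', hl'⟩ := L'.exists_loc h hsmall hTM' hTR'
  have hxo : orderOf (x : G) = q := by rw [orderOf_coe, hl.ord]
  have h2pow : ∀ {g : G}, g ∈ T → ∃ k, orderOf g = 2 ^ k := fun {g} hg => by
    obtain ⟨k, hk⟩ := IsPGroup.iff_orderOf.1 hT ⟨g, hg⟩
    exact ⟨k, by rwa [orderOf_mk] at hk⟩
  -- the prime is three
  have hfix : ∀ w ∈ omega R, (x : G) * w * (x : G)⁻¹ = w → w = 1 := fun w hw e =>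
    h.comm_eq_one hl.prime Nat.prime_two hl.odd (by rw [hxo]) (omega_sq R w hw) (mul_inv_eq_iff_eq_mul.1 e)
  obtain ⟨z₀, hz₀, hz₀1⟩ : ∃ z ∈ omega R, z ≠ (1 : G) := by
    by_contra hcon
    push Not at hcon
    exact omega_ne_bot L.two L.ne ((eq_bot_iff_forall _).2 hcon)
  have hxw : ∀ w ∈ omega R, (x : G) * w * (x : G)⁻¹ ∈ omega R := fun w hw => L.omega_normal x.2 hw
  obtain ⟨hq3, hV4⟩ : q = 3 ∧ Nat.card ↥(omega R) = 4 := by
    haveI := Fact.mk hl.prime
    letI : MulAction ↥(zpowers (x : G)) ↥(omega R) :=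
      { smul := fun g w => ⟨g * w * (g : G)⁻¹, L.omega_normal ((zpowers_le.2 x.2) g.2) w.2⟩
        one_smul := fun w => Subtype.ext (by show ((1 : ↥(zpowers (x : G))) : G) * w * _ = w; simp)
        mul_smul := fun g g' w => Subtype.ext (by
          show ((g * g' : ↥(zpowers (x : G))) : G) * w * ((g * g' : ↥(zpowers (x : G))) : G)⁻¹ =
            g * (g' * w * (g' : G)⁻¹) * (g : G)⁻¹
          push_cast
          group) }
    have hp : IsPGroup q ↥(zpowers (x : G)) := IsPGroup.of_card (n := 1) (by rw [Nat.card_zpowers, hxo, pow_one])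
    have hfp : Nat.card ↥(MulAction.fixedPoints ↥(zpowers (x : G)) ↥(omega R)) = 1 := by
      rw [Nat.card_eq_one_iff_unique]
      refine ⟨⟨fun a b => Subtype.ext (Subtype.ext ?_)⟩, ⟨⟨1, fun g => Subtype.ext ?_⟩⟩⟩
      · have e : ∀ w : ↥(MulAction.fixedPoints ↥(zpowers (x : G)) ↥(omega R)), ((w : ↥(omega R)) : G) = 1 :=
          fun w => hfix _ (w : ↥(omega R)).2 (congrArg Subtype.val (w.2 ⟨x, mem_zpowers _⟩))
        rw [e a, e b]
      · show (g : G) * ((1 : ↥(omega R)) : G) * (g : G)⁻¹ = ((1 : ↥(omega R)) : G)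
        simp
    have hmod := hp.card_modEq_card_fixedPoints ↥(omega R)
    rw [hfp] at hmod
    obtain ⟨n, hn⟩ := IsPGroup.iff_card.1 (L.two.to_le (omega_le R))
    have h1 : 1 < Nat.card ↥(omega R) := by
      by_contra hle
      exact omega_ne_bot L.two L.ne (eq_bot_of_card_le _ (by omega))
    have h3 : q ∣ Nat.card ↥(omega R) - 1 := (Nat.modEq_iff_dvd' h1.le).1 hmod.symm
    have hq2 := hl.prime.two_le
    have hqo := hl.odd
    rcases n with _ | _ | _ | n
    · simp_all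
    · rw [hn] at h3
      have := Nat.le_of_dvd (by norm_num) h3
      norm_num at this
      omega
    · rw [hn] at h3
      have := Nat.le_of_dvd (by norm_num) h3
      norm_num at this
      exact ⟨by omega, by simpa using hn⟩
    · rw [hn] at hV
      have : 2 ^ 3 ≤ 2 ^ (n + 3) := Nat.pow_le_pow_right (by norm_num) (by omega)
      omega
  subst hq3
  -- the intersection
  set V' := omega R'
  have hV'R' : V' ≤ R' := omega_le R'
  have hV'ne : V' ≠ ⊥ := omega_ne_bot L'.two L'.ne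
  obtain ⟨v₁, hv₁, e₁, he₁, hve₁⟩ : ∃ v ∈ V', ∃ e ∈ R, ¬ Commute e v := by
    by_contra hcon
    push Not at hcon
    have hRR' : R ≤ R' := fun e he => by
      by_contra hne'
      refine hV'ne ((eq_bot_iff_forall V').2 fun v hv => ?_)
      refine hl'.fixed_eq_one L'.two h hT (t := ⟨e, hTM' (hRT he)⟩) (hRT he) hne' (h2pow (hRT' hv.1))
        (hcon v hv e he).symm ?_
      have h1 := (hcon _ (by simpa using L'.omega_normal (inv_mem x'.2) hv) e he).map
        (MulAut.conj (x' : G)).toMonoidHom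
      simpa [show (x' : G) * ((x' : G)⁻¹ * v * (x' : G)) * (x' : G)⁻¹ = v by group] using h1.symm
    rcases eq_or_lt_of_le hRR' with e | e
    · exact hne (by rw [← L.norm, ← L'.norm, e])
    · obtain ⟨t, ht, htR⟩ := SetLike.exists_of_lt e
      refine hTR' fun s hs => ?_
      by_cases hsR : s ∈ R
      · exact hRR' hsR
      · have h1 : t * s ∈ R' := hRR' (hl.mul_mem_of L.two hT hTM (hRT' ht) hs htR hsR (Or.inl rfl))
        simpa using R'.mul_mem (inv_mem ht) h1
  obtain ⟨v, hvV, hvc, hvT⟩ : ∃ v ∈ V', (∃ e ∈ R, ¬ Commute e v) ∧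
      ∀ t ∈ T, ∀ e ∈ R, Commute e (t * v * t⁻¹ * v⁻¹) := by
    by_contra hcon
    push Not at hcon
    have hnil := hT.isNilpotent
    obtain ⟨n, hn⟩ := (Subgroup.nilpotent_iff_lowerCentralSeries).1 hnil
    have hind : ∀ k, ∃ v : ↥T, v ∈ (⊤ : Subgroup ↥T).lowerCentralSeries k ∧ (v : G) ∈ V' ∧
        ∃ e ∈ R, ¬ Commute e (v : G) := by
      intro k
      induction k with
      | zero =>
        exact ⟨⟨v₁, hRT' hv₁.1⟩, by rw [Subgroup.lowerCentralSeries_zero]; exact mem_top _, hv₁, e₁, he₁, hve₁⟩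
      | succ k ih =>
        obtain ⟨w, hwk, hwV, hwc⟩ := ih
        obtain ⟨t, ht, e, he, hte⟩ := hcon _ hwV hwc
        refine ⟨⟨t, ht⟩ * w * ⟨t, ht⟩⁻¹ * w⁻¹, ?_, ?_, e, he, hte⟩
        · rw [Subgroup.lowerCentralSeries_succ, commutator_comm]
          exact commutator_mem_commutator (mem_top _) hwk
        · exact V'.mul_mem (L'.omega_normal (hTM' ht) hwV) (inv_mem hwV)
    obtain ⟨w, hw, -, e, -, hwe⟩ := hind n
    rw [hn, mem_bot] at hw
    exact hwe (by rw [hw]; exact Commute.one_right e)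
  -- the commutator map
  set f : G → G := fun e => e * v * e⁻¹ * v⁻¹ with hf
  have hfV : ∀ e ∈ R, f e ∈ V' := fun e he => V'.mul_mem (L'.omega_normal (hTM' (hRT he)) hvV) (inv_mem hvV)
  have hfc : ∀ e ∈ R, ∀ e' ∈ R, Commute e' (f e) := fun e he => hvT e (hRT he)
  have hfm : ∀ a ∈ R, ∀ b ∈ R, f (a * b) = f a * f b := fun a ha b hb => by
    show f (a * b) = f a * f b
    have h1 : f (a * b) = (a * f b * a⁻¹) * f a := by simp only [hf]; group
    rw [h1, (hfc b hb a ha).eq, mul_inv_cancel_right, ((hfV b hb).2.1 (f a) (hfV a ha).1).eq]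
  have hf1 : ∀ e ∈ R, f e = 1 ↔ Commute e v := fun e _ => by
    simp only [hf]
    rw [mul_inv_eq_one, mul_inv_eq_iff_eq_mul]
    exact Iff.rfl
  have hfR' : ∀ e ∈ R', f e = 1 := fun e he => by
    simp only [hf]
    rw [mul_inv_eq_one, mul_inv_eq_iff_eq_mul]
    exact (hvV.2.1 e he).symm.eq
  obtain ⟨g, hg, hgen⟩ := hl'.exists_generator L'.two (L.two) (hRT.trans hTM')
  have himg : ∀ e ∈ R, f e = 1 ∨ f e = f g := by
    intro e he
    obtain ⟨j, hj⟩ := hgen e he
    have hpow : ∀ i : ℕ, f (g ^ i) = f g ^ i := fun i => by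
      induction i with
      | zero => simp [hf]
      | succ i ih => rw [pow_succ, hfm _ (pow_mem hg i) g hg, ih, pow_succ]
    have h1 : f e = f g ^ j := by
      rw [← hpow, ← one_mul (f (g ^ j)), ← hfR' _ hj, ← hfm _ (R.mul_mem he (inv_mem (pow_mem hg j))) _ (pow_mem hg j),
        inv_mul_cancel_right]
    have h2 : f g ^ 2 = 1 := omega_sq R' _ (hfV g hg)
    rcases Nat.even_or_odd' j with ⟨i, rfl | rfl⟩
    · exact Or.inl (by rw [h1, pow_mul, h2, one_pow])
    · exact Or.inr (by rw [h1, pow_succ, pow_mul, h2, one_pow, one_mul])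
  obtain ⟨e₀, he₀, hve₀⟩ := hvc
  have hfg : f g ≠ 1 := fun e => hve₀ ((hf1 e₀ he₀).1 (by rcases himg e₀ he₀ with k | k <;> [exact k; exact k.trans e]))
  have hdiff : ∀ a ∈ R, ∀ b ∈ R, ¬ Commute a v → ¬ Commute b v → Commute (a * b⁻¹) v := by
    intro a ha b hb hav hbv
    rw [← hf1 _ (R.mul_mem ha (inv_mem hb))]
    have e1 := (himg a ha).resolve_left fun e => hav ((hf1 a ha).1 e)
    have e2 := (himg b hb).resolve_left fun e => hbv ((hf1 b hb).1 e)
    have e3 := hfm _ (R.mul_mem ha (inv_mem hb)) b hb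
    rw [inv_mul_cancel_right, e1, e2] at e3
    exact mul_eq_right.1 e3.symm
  have hvT' : v ∈ T := hRT' hvV.1
  by_cases hvR : v ∈ R
  · -- the element lies inside
    exfalso
    set z := f g with hz
    have hzR : z ∈ R := R.mul_mem (L.conjR (L.le hg) hvR) (inv_mem hvR)
    have hzV : z ∈ omega R := ⟨hzR, fun y hy => (hfc g hg y hy).symm, (hfV g hg).2.2⟩
    set K := R ⊓ centralizer (R : Set G) with hK
    have hzK : ∀ e ∈ R, f e ∈ K := fun e he => ⟨R.mul_mem (L.conjR (L.le he) hvR) (inv_mem hvR),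
      mem_centralizer_iff.2 fun y hy => (hfc e he y hy).eq⟩
    have hKn : ∀ y ∈ M, y ∈ normalizer (K : Set G) := fun y hy => mem_nrm fun k hk => ⟨L.conjR hy hk.1,
      mem_centralizer_iff.2 fun r hr => by
        have := congrArg (MulAut.conj y) (mem_centralizer_iff.1 hk.2 _ (L.conjR (inv_mem hy) hr))
        simpa [mul_assoc] using this⟩
    set v₁' : G := (x : G) * v * (x : G)⁻¹
    set v₂' : G := (x : G) * v₁' * (x : G)⁻¹
    have hv1R : v₁' ∈ R := L.conjR x.2 hvR
    have hv2R : v₂' ∈ R := L.conjR x.2 hv1R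
    set w : G := v * v₁' * v₂' with hw
    have hwR : w ∈ R := R.mul_mem (R.mul_mem hvR hv1R) hv2R
    have hx3 : (x : G) * v₂' * (x : G)⁻¹ = v := by
      have : (x : G) * x * x = 1 := by rw [← pow_three', ← hxo, pow_orderOf_eq_one]
      simp only [v₂', v₁']
      rw [show (x : G) * ((x : G) * ((x : G) * v * (x : G)⁻¹) * (x : G)⁻¹) * (x : G)⁻¹ =
        ((x : G) * x * x) * v * ((x : G) * x * x)⁻¹ by group, this]
      group
    have hwK : w ∈ K := by
      refine h.fixed_mem (L.two.to_le inf_le_left) hl.prime hl.odd hxo (hKn _ x.2) (hKn _ (L.le hwR))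
        (h2pow (hRT hwR)) ?_
      have e1 : (x : G) * w * (x : G)⁻¹ = v₁' * v₂' * v := by
        rw [hw, show (x : G) * (v * v₁' * v₂') * (x : G)⁻¹ =
          ((x : G) * v * (x : G)⁻¹) * ((x : G) * v₁' * (x : G)⁻¹) * ((x : G) * v₂' * (x : G)⁻¹) by group, hx3]
      have e2 : (x : G) * w * (x : G)⁻¹ * w⁻¹ = v⁻¹ * (w * v * w⁻¹ * v⁻¹) * v := by
        rw [e1, hw]; group
      rw [e2]
      have := nrm_conj (hKn _ (inv_mem (L.le hvR))) (hzK w hwR)
      rwa [inv_inv] at this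
    -- the three functionals
    set z₁ : G := (x : G) * z * (x : G)⁻¹
    set z₂ : G := (x : G) * z₁ * (x : G)⁻¹
    have hz1V : z₁ ∈ omega R := hxw _ hzV
    have hz01 : z₁ ≠ z := fun e => hfg (hfix z hzV e)
    have hz12 : z₂ ≠ z₁ := fun e => hz01 (by simpa [z₁] using mul_left_cancel (mul_right_cancel e))
    have hz1n : z₁ ≠ 1 := fun e => hfg (conj_eq_one_iff.1 e)
    have hz2n : z₂ ≠ 1 := fun e => hz1n (conj_eq_one_iff.1 e)
    have hz02 : z₂ ≠ z := fun e => by
      refine hz01 ?_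
      have h3 : ((x : G) * x * x) * z * ((x : G) * x * x)⁻¹ = (x : G) * z₂ * (x : G)⁻¹ := by simp only [z₂, z₁]; group
      rw [← pow_three', ← hxo, pow_orderOf_eq_one, e] at h3
      simpa [z₁] using h3.symm
    have hinv : (x : G)⁻¹ ∈ M := inv_mem x.2
    -- equal kernels
    have hker : ∀ e ∈ R, Commute e v → Commute e v₁' := by
      intro e he hev
      by_contra hne1
      set e1 : G := (x : G)⁻¹ * e * (x : G)
      set e2 : G := (x : G)⁻¹ * e1 * (x : G)
      have he1 : e1 ∈ R := by simpa [e1] using L.conjR hinv he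
      have he2 : e2 ∈ R := by simpa [e2] using L.conjR hinv he1
      have hf1' : f e1 = z := (himg e1 he1).resolve_left fun k => hne1 (by
        have := ((hf1 e1 he1).1 k).map (MulAut.conj (x : G)).toMonoidHom
        simpa [e1, v₁', mul_assoc] using this)
      have hew : Commute e w := mem_centralizer_iff.1 hwK.2 e he
      have h1 : e * v₁' * e⁻¹ * v₁'⁻¹ = z₁ := by
        simp only [z₁, v₁']
        rw [← hf1']
        simp only [hf, e1]
        group
      have h2 : e * v₂' * e⁻¹ * v₂'⁻¹ = (x : G) * ((x : G) * f e2 * (x : G)⁻¹) * (x : G)⁻¹ := by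
        simp only [hf, e2, e1, v₂', v₁']
        group
      have hz1c : Commute v₁' z₁ := (hz1V.2.1 v₁' hv1R).symm
      have h3 : e * w * e⁻¹ * w⁻¹ = (e * v₁' * e⁻¹ * v₁'⁻¹) * (e * v₂' * e⁻¹ * v₂'⁻¹) := by
        have ev : e * v * e⁻¹ = v := by rw [hev.eq, mul_inv_cancel_right]
        have hy : (e * v₂' * e⁻¹ * v₂'⁻¹) ∈ omega R := by
          rw [h2]
          rcases himg e2 he2 with k | k <;> rw [k]
          · simpa using (omega R).one_mem
          · exact hxw _ (hxw _ hzV)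
        rw [show e * w * e⁻¹ * w⁻¹ = (e * v * e⁻¹) * ((e * v₁' * e⁻¹ * v₁'⁻¹) * v₁' *
          ((e * v₂' * e⁻¹ * v₂'⁻¹) * v₂')) * w⁻¹ by simp only [hw]; group, ev, h1]
        rw [show z₁ * v₁' * ((e * v₂' * e⁻¹ * v₂'⁻¹) * v₂') = z₁ * (v₁' * (e * v₂' * e⁻¹ * v₂'⁻¹)) * v₂' by group,
          ← (hy.2.1 v₁' hv1R).eq, show v * (z₁ * ((e * v₂' * e⁻¹ * v₂'⁻¹) * v₁') * v₂') * w⁻¹ =
            v * (z₁ * (e * v₂' * e⁻¹ * v₂'⁻¹)) * v⁻¹ by simp only [hw]; group,
          ← ((omega R).mul_mem hz1V hy).2.1 v hvR |>.eq, mul_inv_cancel_right]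
      rw [hew.eq, mul_inv_cancel_right, mul_inv_cancel, h1, h2] at h3
      rcases himg e2 he2 with k | k <;> rw [k] at h3
      · exact hz1n (by simpa using h3.symm)
      · have hz1sq : z₁ * z₁ = 1 := hz1V.2.2
        exact hz12 (mul_left_cancel (hz1sq.trans h3)).symm
    -- an invariant subgroup of index two
    set C := R ⊓ centralizer ({v} : Set G)
    have hCR : C ≤ R := inf_le_left
    have hback : ∀ e ∈ R, Commute e v → Commute ((x : G)⁻¹ * e * (x : G)) v := fun e he hev => by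
      have := (hker e he hev).map (MulAut.conj (x : G)⁻¹).toMonoidHom
      simpa [v₁', mul_assoc] using this
    have hxC : (x : G) ∈ normalizer (C : Set G) := by
      rw [← inv_mem_iff]
      refine mem_nrm fun e he => ⟨L.conjR hinv he.1, mem_centralizer_singleton_iff.2 ?_⟩
      have := hback e he.1 (mem_centralizer_singleton_iff.1 he.2)
      rw [inv_inv]
      exact this.eq
    have hgC : ∀ k ∈ C, g * k * g⁻¹ ∈ C := fun k hk => by
      refine ⟨R.mul_mem (R.mul_mem hg hk.1) (inv_mem hg), mem_centralizer_singleton_iff.2 ?_⟩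
      show Commute (g * k * g⁻¹) v
      rw [← hf1 _ (R.mul_mem (R.mul_mem hg hk.1) (inv_mem hg)), hfm _ (R.mul_mem hg hk.1) _ (inv_mem hg),
        hfm g hg k hk.1, (hf1 k hk.1).2 (mem_centralizer_singleton_iff.1 hk.2), mul_one, ← hfm g hg _ (inv_mem hg),
        mul_inv_cancel]
      simp [hf]
    have hgnc : ¬ Commute g v := fun k => hfg ((hf1 g hg).2 k)
    have hxg : ¬ Commute ((x : G) * g * (x : G)⁻¹) v := fun k => hgnc (by
      simpa [mul_assoc] using hback _ (L.conjR x.2 hg) k)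
    have hcmem : (x : G) * g * (x : G)⁻¹ * g⁻¹ ∈ C := ⟨R.mul_mem (L.conjR x.2 hg) (inv_mem hg),
      mem_centralizer_singleton_iff.2 (hdiff _ (L.conjR x.2 hg) g hg hxg hgnc)⟩
    exact hgnc (mem_centralizer_singleton_iff.1
      (h.fixed_mem (L.two.to_le hCR) hl.prime hl.odd hxo hxC (mem_nrm hgC) (h2pow (hRT hg)) hcmem).2)
  · -- the element lies outside: the group has order four
    have hcard : Nat.card ↥R ≤ 4 := by
      let c : ↥R → Bool × Bool := fun e =>
        (decide (Commute (e : G) v), decide (Commute ((x : G)⁻¹ * e * (x : G)) v))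
      have hc : Function.Injective c := by
        intro e e' k
        simp only [c, Prod.mk.injEq, decide_eq_decide] at k
        obtain ⟨k1, k2⟩ := k
        have key : ∀ a ∈ R, ∀ b ∈ R, (Commute a v ↔ Commute b v) → Commute (a * b⁻¹) v := by
          intro a ha b hb hab
          by_cases hav : Commute a v
          · exact hav.mul_left (hab.1 hav).inv_left
          · exact hdiff a ha b hb hav fun hb' => hav (hab.2 hb')
        have hxi : ∀ y : ↥R, (x : G)⁻¹ * y * (x : G) ∈ R := fun y => by simpa using L.conjR (inv_mem x.2) y.2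
        have h1 := key e e.2 e' e'.2 k1
        have h2 := (key _ (hxi e) _ (hxi e') k2).map (MulAut.conj (x : G)).toMonoidHom
        have := hl.fixed_eq_one L.two h hT (t := ⟨v, hTM hvT'⟩) hvT' hvR (v := (e : G) * (e' : G)⁻¹)
          (h2pow (hRT (R.mul_mem e.2 (inv_mem e'.2)))) h1 (by simpa [mul_assoc] using h2)
        exact Subtype.ext (mul_inv_eq_one.1 this)
      refine (Nat.card_le_card_of_injective c hc).trans (le_of_eq ?_)
      simp
    have hRV : omega R = R := eq_of_le_of_card_ge (omega_le R) (by omega)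
    refine ⟨R, hRT, by rw [← hRV]; exact hV4, fun w hw => (hRV.ge hw).2.2, le_antisymm ?_ ?_⟩
    · obtain ⟨a, haR, ha, -⟩ := exists_central L.two L.ne
      have hle : centralizer (R : Set G) ≤ M := by
        rw [← L.norm]
        exact centralizer_le_normalizer _
      refine L.o2 _ hle ((h.isPGroup_centralizer (p := 2) (x := a) (by rw [ha])).to_le
        (centralizer_le (Set.singleton_subset_iff.2 haR))) fun y hy k hk => mem_centralizer_iff.2 fun r hr => ?_
      have := congrArg (MulAut.conj y) (mem_centralizer_iff.1 hk _ (L.conjR (inv_mem hy) hr))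
      simpa [mul_assoc] using this
    · exact fun w hw => mem_centralizer_iff.2 fun r hr => ((hRV.ge hw).2.1 r hr).symm.eq

/-- Two maximal local subgroups with a common Sylow subgroup yield a self-centralising four-group. -/
theorem amalgam {M R M' R' T : Subgroup G} (L : MaxLocal M R) (L' : MaxLocal M' R') (hne : M ≠ M')
    (hT : IsPGroup 2 ↥T) (hTM : T ≤ M) (hTM' : T ≤ M') (hRT : R ≤ T) (hRT' : R' ≤ T)
    (hTR : ¬ T ≤ R) (hTR' : ¬ T ≤ R') :
    ∃ V : Subgroup G, V ≤ T ∧ Nat.card ↥V = 4 ∧ (∀ v ∈ V, v * v = 1) ∧ centralizer (V : Set G) = V := by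
  by_cases hV : Nat.card ↥(omega R) ≤ 4
  · exact small_case h hsmall L L' hne hT hTM hTM' hRT hRT' hTR hTR' hV
  by_cases hV' : Nat.card ↥(omega R') ≤ 4
  · exact small_case h hsmall L' L hne.symm hT hTM' hTM hRT' hRT hTR' hTR hV'
  exact absurd ((eq_nrm_join h hsmall L hT hTM hRT hTR (by omega)).symm.trans
    (eq_nrm_join h hsmall L' hT hTM' hRT' hTR' (by omega))) hne

end

end Cfsg.Lib.PrimePowerOrders
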