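import Mathlib

/-!
Finite groups whose elements have order a power of two or an odd prime other than five.
-/

set_option autoImplicit false
set_option linter.unusedSectionVars false
set_option linter.style.haveILetI false

namespace Cfsg.Lib.PrimePowerOrders

open Subgroup

universe u

/-- every element has order a power of two or a prime different from five -/
def EP (G : Type u) [Group G] : Prop :=
  ∀ g : G, (∃ k : ℕ, orderOf g = 2 ^ k) ∨ ((orderOf g).Prime ∧ orderOf g ≠ 5)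

variable {G : Type u} [Group G]

theorem EP.of_surjective {H : Type*} [Group H] (h : EP G) (f : G →* H) (hf : Function.Surjective f) : EP H := by
  intro x
  obtain ⟨g, rfl⟩ := hf x
  have hd := orderOf_map_dvd f g
  rcases h g with ⟨k, hk⟩ | ⟨hp, h5⟩
  · rw [hk] at hd
    obtain ⟨j, -, hj⟩ := (Nat.dvd_prime_pow Nat.prime_two).1 hd
    exact Or.inl ⟨j, hj⟩
  · rcases (Nat.dvd_prime hp).1 hd with e | e
    · exact Or.inl ⟨0, by rw [e, pow_zero]⟩
    · exact Or.inr ⟨e ▸ hp, e ▸ h5⟩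

theorem EP.of_injective {H : Type*} [Group H] (h : EP G) (f : H →* G) (hf : Function.Injective f) : EP H := by
  intro x
  rw [← orderOf_injective f hf x]
  exact h (f x)

theorem EP.subgroup (h : EP G) (H : Subgroup G) : EP ↥H := h.of_injective H.subtype H.subtype_injective

theorem EP.quotient (h : EP G) (N : Subgroup G) [N.Normal] : EP (G ⧸ N) :=
  h.of_surjective (QuotientGroup.mk' N) (QuotientGroup.mk'_surjective N)

section

variable (h : EP G)
include h

theorem EP.odd_prime {g : G} {p : ℕ} (hp : p.Prime) (hp2 : p ≠ 2) (hd : p ∣ orderOf g) : orderOf g = p := by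
  rcases h g with ⟨k, hk⟩ | ⟨hpr, -⟩
  · rw [hk] at hd
    exact absurd ((Nat.prime_dvd_prime_iff_eq hp Nat.prime_two).1 (hp.dvd_of_dvd_pow hd)) hp2
  · exact ((Nat.prime_dvd_prime_iff_eq hp hpr).1 hd).symm

theorem EP.not_five [Finite G] : ¬ 5 ∣ Nat.card G := by
  intro hd
  have : Fact (Nat.Prime 5) := ⟨by norm_num⟩
  obtain ⟨g, hg⟩ := exists_prime_orderOf_dvd_card' (G := G) 5 hd
  have := h.odd_prime (g := g) (p := 5) (by norm_num) (by norm_num) (by rw [hg])
  rcases h g with ⟨k, hk⟩ | ⟨-, h5⟩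
  · rw [hg] at hk
    have := (Nat.prime_dvd_prime_iff_eq (by norm_num : Nat.Prime 5) Nat.prime_two).1
      ((by norm_num : Nat.Prime 5).dvd_of_dvd_pow (dvd_of_eq hk))
    omega
  · exact h5 hg

/-- Commuting elements involve only one prime. -/
theorem EP.same_prime [Finite G] {a b : G} (hc : Commute a b) {p q : ℕ} (hp : p.Prime) (hq : q.Prime)
    (ha : p ∣ orderOf a) (hb : q ∣ orderOf b) : p = q := by
  by_contra hne
  set a' := a ^ (orderOf a / p)
  set b' := b ^ (orderOf b / q)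
  have ha' : orderOf a' = p := orderOf_pow_orderOf_div (orderOf_pos a).ne' ha
  have hb' : orderOf b' = q := orderOf_pow_orderOf_div (orderOf_pos b).ne' hb
  have ho : orderOf (a' * b') = p * q := by
    rw [(hc.pow_pow _ _).orderOf_mul_eq_mul_orderOf_of_coprime (by rw [ha', hb']; exact (Nat.coprime_primes hp hq).2 hne),
      ha', hb']
  rcases h (a' * b') with ⟨k, hk⟩ | ⟨hpr, -⟩
  · rw [ho] at hk
    have e1 := (Nat.prime_dvd_prime_iff_eq hp Nat.prime_two).1 (hp.dvd_of_dvd_pow (hk ▸ dvd_mul_right p q))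
    have e2 := (Nat.prime_dvd_prime_iff_eq hq Nat.prime_two).1 (hq.dvd_of_dvd_pow (hk ▸ dvd_mul_left q p))
    exact hne (e1.trans e2.symm)
  · rw [ho] at hpr
    exact Nat.not_prime_mul hp.ne_one hq.ne_one hpr

/-- An element of prime order commuting with an element of another prime exponent. -/
theorem EP.comm_eq_one [Finite G] {a v : G} {p r : ℕ} (hp : p.Prime) (hr : r.Prime) (hne : p ≠ r)
    (ha : p ∣ orderOf a) (hv : v ^ r = 1) (hc : Commute a v) : v = 1 := by
  by_contra hv1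
  have := Fact.mk hr
  exact hne (h.same_prime hc hp hr ha (by rw [orderOf_eq_prime hv hv1]))

/-- The centraliser of a nontrivial element is a group of prime power order for the same prime. -/
theorem EP.isPGroup_centralizer [Finite G] {x : G} {p : ℕ} [Fact p.Prime] (hx : p ∣ orderOf x) :
    IsPGroup p ↥(centralizer ({x} : Set G)) := by
  rw [IsPGroup.iff_orderOf]
  rintro ⟨c, hc⟩
  rw [orderOf_mk]
  refine ⟨_, Nat.eq_prime_pow_of_unique_prime_dvd (orderOf_pos c).ne' fun {q} hq hqc => ?_⟩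
  exact (h.same_prime (mem_centralizer_singleton_iff.1 hc) hq (Fact.out) hqc hx)

end

/-! ### products over conjugates -/

/-- conjugation inside a subgroup normalised by `g` -/
def conjOn (V : Subgroup G) (g : G) (hg : ∀ v ∈ V, g * v * g⁻¹ ∈ V) (v : ↥V) : ↥V := ⟨g * v * g⁻¹, hg v v.2⟩

theorem conjOn_congr (V : Subgroup G) {g g' : G} (hg : ∀ v ∈ V, g * v * g⁻¹ ∈ V)
    (hg' : ∀ v ∈ V, g' * v * g'⁻¹ ∈ V) (e : g = g') (v : ↥V) : conjOn V g hg v = conjOn V g' hg' v := by
  subst e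
  rfl

variable (V : Subgroup G)

theorem pow_normalises {g : G} (hg : ∀ v ∈ V, g * v * g⁻¹ ∈ V) : ∀ (n : ℕ), ∀ v ∈ V, g ^ n * v * (g ^ n)⁻¹ ∈ V
  | 0, v, hv => by simpa using hv
  | n + 1, v, hv => by
    have := hg _ (pow_normalises hg n v hv)
    rwa [show g ^ (n + 1) * v * (g ^ (n + 1))⁻¹ = g * (g ^ n * v * (g ^ n)⁻¹) * g⁻¹ by rw [pow_succ']; group]

theorem mul_normalises {g g' : G} (hg : ∀ v ∈ V, g * v * g⁻¹ ∈ V) (hg' : ∀ v ∈ V, g' * v * g'⁻¹ ∈ V) :
    ∀ v ∈ V, (g * g') * v * (g * g')⁻¹ ∈ V := fun v hv => by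
  have := hg _ (hg' v hv)
  rwa [show g * g' * v * (g * g')⁻¹ = g * (g' * v * g'⁻¹) * g⁻¹ by group]

variable [IsMulCommutative V]

open scoped IsMulCommutative

/-- The product over a cyclic group without fixed points. -/
theorem norm_eq_one {g : G} {n : ℕ} (hn : g ^ n = 1) (hg : ∀ v ∈ V, g * v * g⁻¹ ∈ V)
    (hfix : ∀ v ∈ V, g * v * g⁻¹ = v → v = 1) (v : ↥V) :
    ∏ j ∈ Finset.range n, conjOn V (g ^ j) (pow_normalises V hg j) v = 1 := by
  set f : ℕ → ↥V := fun j => conjOn V (g ^ j) (pow_normalises V hg j) v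
  let φ : ↥V →* ↥V :=
    { toFun := conjOn V g hg
      map_one' := Subtype.ext (by simp [conjOn])
      map_mul' := fun x y => Subtype.ext (by
        show g * ((x : G) * y) * g⁻¹ = g * (x : G) * g⁻¹ * (g * (y : G) * g⁻¹)
        group) }
  have hstep : ∀ j, φ (f j) = f (j + 1) := fun j => Subtype.ext (by
    show g * (g ^ j * (v : G) * (g ^ j)⁻¹) * g⁻¹ = g ^ (j + 1) * (v : G) * (g ^ (j + 1))⁻¹
    rw [pow_succ']
    group)
  have hend : f n = f 0 := Subtype.ext (by
    show g ^ n * (v : G) * (g ^ n)⁻¹ = g ^ 0 * (v : G) * (g ^ 0)⁻¹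
    rw [hn, pow_zero])
  show ∏ j ∈ Finset.range n, f j = 1
  have hφ : φ (∏ j ∈ Finset.range n, f j) = ∏ j ∈ Finset.range n, f j := by
    rw [map_prod, Finset.prod_congr rfl fun j _ => hstep j]
    have h1 := Finset.prod_range_succ' f n
    have h2 := Finset.prod_range_succ f n
    rw [hend] at h2
    exact mul_right_cancel (h1.symm.trans h2)
  exact Subtype.ext (hfix _ (SetLike.coe_mem _) (congrArg Subtype.val hφ))

/-- Fixed-point-free families of cyclic groups covering each coset once. -/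
theorem pow_card_eq_one {a b : G} {p n : ℕ} [Fact p.Prime] (hap : a ^ p = 1) (hn : 0 < n)
    (ha : ∀ v ∈ V, a * v * a⁻¹ ∈ V) (hb : ∀ v ∈ V, b * v * b⁻¹ ∈ V) (hafix : ∀ v ∈ V, a * v * a⁻¹ = v → v = 1)
    (c : ZMod p → G) (hc : ∀ i, ∀ v ∈ V, c i * v * (c i)⁻¹ ∈ V) (hcn : ∀ i, c i ^ n = 1)
    (hcfix : ∀ i, ∀ v ∈ V, c i * v * (c i)⁻¹ = v → v = 1)
    (hσ : ∀ j, 0 < j → j < n → ∃ σ : ZMod p ≃ ZMod p, ∀ i, c i ^ j = a ^ (σ i).val * b ^ j)
    {v : G} (hv : v ∈ V) : v ^ p = 1 := by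
  classical
  set w : ↥V := ⟨v, hv⟩
  have h0 : ∏ i : ZMod p, ∏ j ∈ Finset.range n, conjOn V (c i ^ j) (pow_normalises V (hc i) j) w = 1 :=
    Finset.prod_eq_one fun i _ => norm_eq_one V (hcn i) (hc i) (hcfix i) w
  rw [Finset.prod_comm, Finset.prod_eq_single 0] at h0
  · have h1 : ∀ i : ZMod p, conjOn V (c i ^ 0) (pow_normalises V (hc i) 0) w = w := fun i =>
      Subtype.ext (by simp [conjOn])
    rw [Finset.prod_congr rfl fun i _ => h1 i, Finset.prod_const, Finset.card_univ, ZMod.card] at h0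
    simpa [w] using congrArg Subtype.val h0
  · intro j hj hj0
    obtain ⟨σ, hσ⟩ := hσ j (Nat.pos_of_ne_zero hj0) (Finset.mem_range.1 hj)
    set u : ↥V := conjOn V (b ^ j) (pow_normalises V hb j) w
    have h2 : ∀ i, conjOn V (c i ^ j) (pow_normalises V (hc i) j) w =
        conjOn V (a ^ (σ i).val) (pow_normalises V ha _) u := fun i => Subtype.ext (by
      show c i ^ j * v * (c i ^ j)⁻¹ = a ^ (σ i).val * (b ^ j * v * (b ^ j)⁻¹) * (a ^ (σ i).val)⁻¹
      rw [hσ i]
      group)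
    rw [Finset.prod_congr rfl fun i _ => h2 i,
      Equiv.prod_comp σ fun x : ZMod p => conjOn V (a ^ x.val) (pow_normalises V ha _) u]
    rw [← norm_eq_one V hap ha hafix u]
    refine Finset.prod_nbij (fun x : ZMod p => x.val) (fun x _ => Finset.mem_range.2 (ZMod.val_lt x))
      (fun x _ y _ h => ZMod.val_injective p h) ?_ (fun x _ => rfl)
    intro j hj
    exact ⟨(j : ZMod p), Finset.mem_univ _, ZMod.val_cast_of_lt (Finset.mem_range.1 hj)⟩
  · intro h
    exact absurd (Finset.mem_range.2 hn) h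

omit [IsMulCommutative V]

theorem zmod_val_pow {a : G} {p : ℕ} [NeZero p] (hap : a ^ p = 1) (k : ℕ) : a ^ (k : ZMod p).val = a ^ k := by
  rw [ZMod.val_natCast, ← pow_mod_orderOf a (k % p), Nat.mod_mod_of_dvd k (orderOf_dvd_of_pow_eq_one hap),
    pow_mod_orderOf]

/-- No group of order the product of two primes acts without composite orders on a nontrivial group of another
prime exponent. -/
theorem EP.no_pq [Finite G] (h : EP G) {a b v : G} {p q r : ℕ} [Fact p.Prime] (hq : q.Prime) (hr : r.Prime)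
    (hpq : p ≠ q) (hpr : p ≠ r) (hqr : q ≠ r) (ha : orderOf a = p) (hb : orderOf b = q)
    (hn : b * a * b⁻¹ ∈ zpowers a) (W : Subgroup G) [IsMulCommutative W] (hWr : ∀ w ∈ W, w ^ r = 1)
    (haW : ∀ w ∈ W, a * w * a⁻¹ ∈ W) (hbW : ∀ w ∈ W, b * w * b⁻¹ ∈ W) (hv : v ∈ W) : v = 1 := by
  have hp : p.Prime := Fact.out
  have hap : a ^ p = 1 := ha ▸ pow_orderOf_eq_one a
  have hbq : b ^ q = 1 := hb ▸ pow_orderOf_eq_one b
  obtain ⟨e, he⟩ : ∃ e : ℕ, b * a * b⁻¹ = a ^ e := by
    obtain ⟨e, he⟩ := mem_powers_iff_mem_zpowers.2 hn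
    exact ⟨e, he.symm⟩
  have hej : ∀ j : ℕ, b ^ j * a * (b ^ j)⁻¹ = a ^ (e ^ j) := by
    intro j
    induction j with
    | zero => simp
    | succ j ih =>
      rw [show b ^ (j + 1) * a * (b ^ (j + 1))⁻¹ = b * (b ^ j * a * (b ^ j)⁻¹) * b⁻¹ by rw [pow_succ']; group, ih,
        ← conj_pow, he, ← pow_mul, pow_succ']
  have hfix : ∀ g : G, ∀ s : ℕ, s.Prime → s ≠ r → orderOf g = s → ∀ w ∈ W, g * w * g⁻¹ = w → w = 1 :=
    fun g s hs hsr hg w hw hc => h.comm_eq_one hs hr hsr (by rw [hg]) (hWr w hw) (mul_inv_eq_iff_eq_mul.1 hc)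
  have hp1 : v ^ p = 1 := by
    refine pow_card_eq_one W (b := b) (n := q) hap hq.pos haW hbW (hfix a p hp hpr ha)
      (fun i : ZMod p => a ^ i.val * b * (a ^ i.val)⁻¹) (fun i => ?_) (fun i => ?_) (fun i => ?_) ?_ hv
    · refine mul_normalises W (mul_normalises W (pow_normalises W haW _) hbW) ?_
      intro w hw
      have := pow_normalises W haW ((p - 1) * i.val) w hw
      rwa [show a ^ ((p - 1) * i.val) = (a ^ i.val)⁻¹ from eq_inv_of_mul_eq_one_left (by
        rw [← pow_add, show (p - 1) * i.val + i.val = p * i.val by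
          obtain ⟨p', rfl⟩ : ∃ p', p = p' + 1 := ⟨p - 1, by have := hp.pos; omega⟩
          simp; ring, pow_mul, hap, one_pow])] at this
    · rw [conj_pow, hbq]
      group
    · refine hfix _ q hq hqr ?_
      rw [← MulAut.conj_apply, MulEquiv.orderOf_eq, hb]
    · intro j hj0 hjq
      have hne : ((1 : ZMod p) - (e ^ j : ℕ)) ≠ 0 := by
        intro hz
        rw [sub_eq_zero] at hz
        have hcomm : b ^ j * a * (b ^ j)⁻¹ = a := by
          rw [hej, ← zmod_val_pow hap, ← hz, ZMod.val_one, pow_one]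
        refine hpq (h.same_prime (mul_inv_eq_iff_eq_mul.1 hcomm).symm hp hq (by rw [ha]) ?_)
        have : Fact q.Prime := ⟨hq⟩
        rw [orderOf_eq_prime (p := q) (by rw [← pow_mul, mul_comm, pow_mul, hbq, one_pow])
          (pow_ne_one_of_lt_orderOf hj0.ne' (by omega))]
      refine ⟨Equiv.mulLeft₀ _ hne, fun i => ?_⟩
      rw [conj_pow]
      have h1 : b ^ j * (a ^ i.val)⁻¹ = (a ^ (e ^ j * i.val))⁻¹ * b ^ j := by
        rw [pow_mul, ← hej, conj_pow]
        group
      rw [mul_assoc, h1, ← mul_assoc]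
      congr 1
      rw [mul_inv_eq_iff_eq_mul, ← pow_add, ← zmod_val_pow hap i.val, ← zmod_val_pow hap (_ + _)]
      congr 2
      simp only [Equiv.mulLeft₀_apply, Nat.cast_add, Nat.cast_mul, ZMod.natCast_val, ZMod.cast_id', id_eq]
      ring
  by_contra hv1
  have : Fact r.Prime := ⟨hr⟩
  exact hpr ((Nat.prime_dvd_prime_iff_eq hr hp).1 (orderOf_eq_prime (hWr v hv) hv1 ▸ orderOf_dvd_of_pow_eq_one hp1)).symm

/-- Commuting elements of the same prime order generate a cyclic group if they act on a nontrivial group of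
another prime exponent. -/
theorem EP.no_pp [Finite G] (h : EP G) {a b v : G} {p r : ℕ} [Fact p.Prime] (hr : r.Prime) (hpr : p ≠ r)
    (ha : orderOf a = p) (hb : b ^ p = 1) (hba : b ∉ zpowers a) (hab : Commute a b)
    (W : Subgroup G) [IsMulCommutative W] (hWr : ∀ w ∈ W, w ^ r = 1)
    (haW : ∀ w ∈ W, a * w * a⁻¹ ∈ W) (hbW : ∀ w ∈ W, b * w * b⁻¹ ∈ W) (hv : v ∈ W) : v = 1 := by
  have hp : p.Prime := Fact.out
  have hap : a ^ p = 1 := ha ▸ pow_orderOf_eq_one a
  have hfix : ∀ g : G, orderOf g = p → ∀ w ∈ W, g * w * g⁻¹ = w → w = 1 :=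
    fun g hg w hw hc => h.comm_eq_one hp hr hpr (by rw [hg]) (hWr w hw) (mul_inv_eq_iff_eq_mul.1 hc)
  have hp1 : v ^ p = 1 := by
    refine pow_card_eq_one W (b := b) (n := p) hap hp.pos haW hbW (hfix a ha)
      (fun i : ZMod p => a ^ i.val * b) (fun i => mul_normalises W (pow_normalises W haW _) hbW)
      (fun i => ?_) (fun i => ?_) ?_ hv
    · rw [(hab.pow_left _).mul_pow, hb, ← pow_mul, mul_comm, pow_mul, hap, one_pow, mul_one]
    · refine hfix _ (orderOf_eq_prime ?_ ?_)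
      · rw [(hab.pow_left _).mul_pow, hb, ← pow_mul, mul_comm, pow_mul, hap, one_pow, mul_one]
      · intro e
        exact hba ((eq_inv_of_mul_eq_one_right e).symm ▸ inv_mem (pow_mem (mem_zpowers a) _))
    · intro j hj0 hjp
      have hne : (j : ZMod p) ≠ 0 := fun e =>
        absurd (Nat.le_of_dvd hj0 ((ZMod.natCast_eq_zero_iff j p).1 e)) (by omega)
      refine ⟨Equiv.mulLeft₀ _ hne, fun i => ?_⟩
      rw [(hab.pow_left _).mul_pow, ← pow_mul, ← zmod_val_pow hap (_ * _)]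
      congr 3
      simp [mul_comm]
  by_contra hv1
  have : Fact r.Prime := ⟨hr⟩
  exact hpr ((Nat.prime_dvd_prime_iff_eq hr hp).1 (orderOf_eq_prime (hWr v hv) hv1 ▸ orderOf_dvd_of_pow_eq_one hp1)).symm

end Cfsg.Lib.PrimePowerOrders
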