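import Cfsg.Agent.PrimePowerOrders.Pairs

/-!
The structure of a proper subgroup with a nontrivial largest normal 2-subgroup: over that subgroup it is a
subgroup of the Frobenius group of a single odd prime with a cyclic complement of 2-power order.
-/

set_option autoImplicit false
set_option linter.unusedSectionVars false
set_option linter.style.haveILetI false

namespace Cfsg.Lib.PrimePowerOrders

open Subgroup

universe u

variable {G : Type u} [Group G] [Finite G]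

/-- the involutions of the centre, with the identity -/
def omega (R : Subgroup G) : Subgroup G where
  carrier := {x | x ∈ R ∧ (∀ y ∈ R, Commute x y) ∧ x * x = 1}
  one_mem' := ⟨R.one_mem, fun y _ => Commute.one_left y, one_mul 1⟩
  mul_mem' := by
    rintro a b ⟨ha, ha', ha2⟩ ⟨hb, hb', hb2⟩
    refine ⟨R.mul_mem ha hb, fun y hy => (ha' y hy).mul_left (hb' y hy), ?_⟩
    rw [show a * b * (a * b) = a * (b * a) * b by group, ← (ha' b hb).eq, show a * (a * b) * b = a * a * (b * b) by group,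
      ha2, hb2, one_mul]
  inv_mem' := by
    rintro a ⟨ha, ha', ha2⟩
    rw [inv_eq_of_mul_eq_one_right ha2]
    exact ⟨ha, ha', ha2⟩

theorem mem_omega {R : Subgroup G} {x : G} : x ∈ omega R ↔ x ∈ R ∧ (∀ y ∈ R, Commute x y) ∧ x * x = 1 := Iff.rfl

theorem omega_le (R : Subgroup G) : omega R ≤ R := fun _ hx => hx.1

instance omega_comm (R : Subgroup G) : IsMulCommutative ↥(omega R) :=
  ⟨⟨fun a b => Subtype.ext (a.2.2.1 b b.2.1).eq⟩⟩

theorem omega_sq (R : Subgroup G) : ∀ w ∈ omega R, w ^ 2 = 1 := fun w hw => by rw [pow_two]; exact hw.2.2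

theorem omega_normalises {R : Subgroup G} {g : G} (hg : ∀ v ∈ R, g * v * g⁻¹ ∈ R)
    (hg' : ∀ v ∈ R, g⁻¹ * v * g ∈ R) {w : G} (hw : w ∈ omega R) : g * w * g⁻¹ ∈ omega R := by
  obtain ⟨h1, h2, h3⟩ := hw
  refine ⟨hg w h1, fun y hy => ?_, ?_⟩
  · have := (h2 _ (hg' y hy)).map (MulAut.conj g).toMonoidHom
    simpa [show g * (g⁻¹ * y * g) * g⁻¹ = y by group] using this
  · rw [show g * w * g⁻¹ * (g * w * g⁻¹) = g * (w * w) * g⁻¹ by group, h3]
    group

theorem omega_ne_bot {R : Subgroup G} (hR : IsPGroup 2 ↥R) (hne : R ≠ ⊥) : omega R ≠ ⊥ := by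
  haveI : Fact (Nat.Prime 2) := ⟨Nat.prime_two⟩
  obtain ⟨a, haR, ha, hac⟩ := exists_central hR hne
  intro e
  have : a ∈ omega R := ⟨haR, hac, by rw [← pow_two, ← ha, pow_orderOf_eq_one]⟩
  rw [e, mem_bot] at this
  rw [this, orderOf_one] at ha
  omega

theorem three_units : ∀ u v : (ZMod 3)ˣ, u ≠ 1 → v ≠ 1 → u * v = 1 := by decide

/-- A local group: modulo `R` a Frobenius group of the odd prime `q` with kernel generated by `x`. -/
structure Loc (M R : Subgroup G) [(R.subgroupOf M).Normal] (q : ℕ) (x : ↥M) : Prop where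
  prime : q.Prime
  odd : q ≠ 2
  ord : orderOf x = q
  conj : ∀ y : ↥M, ∃ k : ℕ, (↑(y * x * y⁻¹) : ↥M ⧸ R.subgroupOf M) = (↑(x ^ k) : ↥M ⧸ R.subgroupOf M)
  cent : ∀ y : ↥M, (↑(y * x) : ↥M ⧸ R.subgroupOf M) = (↑(x * y) : ↥M ⧸ R.subgroupOf M) →
    ∃ k : ℕ, (↑y : ↥M ⧸ R.subgroupOf M) = (↑(x ^ k) : ↥M ⧸ R.subgroupOf M)
  primes : ∀ r : ℕ, r.Prime → r ∣ Nat.card ↥M → r = 2 ∨ r = q
  not_sq : ¬ q ^ 2 ∣ Nat.card ↥M

/-- A proper subgroup with a largest normal 2-subgroup is that subgroup or a local group over it. -/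
theorem exists_loc (h : EP G) (hsmall : SmallSimple.{u} (Nat.card G)) {M R : Subgroup G} [(R.subgroupOf M).Normal]
    (hM : M ≠ ⊤) (hRM : R ≤ M) (hR : IsPGroup 2 ↥R) (hne : R ≠ ⊥)
    (hmax : ∀ K : Subgroup G, K ≤ M → IsPGroup 2 ↥K → (∀ g ∈ M, ∀ v ∈ K, g * v * g⁻¹ ∈ K) → K ≤ R)
    (hneq : M ≠ R) : ∃ q x, Loc M R q x := by
  classical
  haveI : Fact (Nat.Prime 2) := ⟨Nat.prime_two⟩
  haveI : Fact (Nat.Prime 7) := ⟨by norm_num⟩
  set K := R.subgroupOf M with hK
  have hY : EP ↥M := h.subgroup M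
  have hKp : IsPGroup 2 ↥K := hR.comap_of_injective M.subtype M.subtype_injective
  have hKne : K ≠ ⊥ := fun e => hne (by
    rw [hK, subgroupOf_eq_bot] at e
    exact e.eq_bot_of_le hRM)
  set W : Subgroup ↥M := omega K
  have hWne : W ≠ ⊥ := omega_ne_bot hKp hKne
  have hWn : ∀ g : ↥M, ∀ w ∈ W, g * w * g⁻¹ ∈ W := fun g w hw =>
    omega_normalises (fun v hv => Normal.conj_mem inferInstance v hv g) (fun v hv => by
      simpa using Normal.conj_mem (inferInstance : K.Normal) v hv g⁻¹) hw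
  have hcard : ∀ (p : ℕ) [Fact p.Prime], p ≠ 2 → ∀ S : Sylow p ↥M, Nat.card ↥(S : Subgroup ↥M) ∣ p := by
    intro p _ hp2 S
    by_cases hb : (S : Subgroup ↥M) = ⊥
    · rw [hb, card_bot]; exact one_dvd p
    obtain ⟨a, ha, e⟩ := hY.card_of_acting S.2 hp2 Nat.prime_two hp2 hb W (omega_sq K) hWne fun g _ => hWn g
    rw [e, Nat.card_zpowers, ha]
  have hsq : ∀ p : ℕ, p.Prime → p ≠ 2 → ¬ p ^ 2 ∣ Nat.card ↥M := by
    intro p hp hp2 hd
    haveI := Fact.mk hp
    obtain ⟨S⟩ : Nonempty (Sylow p ↥M) := inferInstance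
    have h1 : p ^ 2 ∣ p := (S.pow_dvd_card_of_pow_dvd_card hd).trans (hcard p hp2 S)
    have h2 := Nat.le_of_dvd hp.pos h1
    have h3 := hp.two_le
    nlinarith
  have hlt : Nat.card (↥M ⧸ K) < Nat.card G :=
    lt_of_le_of_lt (Nat.card_le_card_of_surjective _ (QuotientGroup.mk'_surjective K))
      (lt_of_le_of_ne M.card_le_card_group fun e => hM (eq_top_of_card_eq M e))
  haveI hsol : Group.IsSolvable (↥M ⧸ K) := by
    by_contra hns
    obtain ⟨P', hP', hne', y', hy', hn'⟩ := hasTwentyOne hsmall _ _ rfl (hY.quotient K) hns hlt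
    obtain ⟨P, hP, hPne, g, hg, hgP⟩ := hY.lift_normalised K (p := 7) (q := 3) (by norm_num) (by norm_num)
      (by norm_num) hP' hne' hy' hn'
    exact hY.no_group_pq hP (by norm_num) (by norm_num : Nat.Prime 3) Nat.prime_two (by norm_num) (by norm_num)
      (by norm_num) hPne hg hgP W (omega_sq K) hWne (fun x _ => hWn x) (hWn g)
  obtain ⟨N, -, hNn, hNne, hNmin⟩ := Coprime.exists_minimal_normal (G := ↥M ⧸ K) (K := ⊤) inferInstance (by
    intro e
    haveI : Subsingleton (↥M ⧸ K) := Subgroup.subsingleton_iff.1 (subsingleton_of_bot_eq_top e.symm)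
    refine hneq (le_antisymm (fun g hg => ?_) hRM)
    have : (⟨g, hg⟩ : ↥M) ∈ K := (QuotientGroup.eq_one_iff _).1 (Subsingleton.elim _ _)
    exact this)
  haveI := hNn
  obtain ⟨-, p, hp, hNp, hNexp⟩ := Coprime.minimal_normal_solvable (N := N) inferInstance hNne hNmin
  haveI := Fact.mk hp
  have hp2 : p ≠ 2 := by
    rintro rfl
    set K' := N.comap (QuotientGroup.mk' K)
    have hK' : IsPGroup 2 ↥K' := hNp.comap_of_ker_isPGroup _ (by rw [QuotientGroup.ker_mk']; exact hKp)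
    have hle := hmax (K'.map M.subtype) (map_subtype_le _) (hK'.map _) (by
      rintro g hg _ ⟨v, hv, rfl⟩
      exact ⟨⟨g, hg⟩ * v * ⟨g, hg⟩⁻¹, Normal.conj_mem inferInstance v hv _, rfl⟩)
    refine hNne ((eq_bot_iff_forall N).2 fun v hv => ?_)
    obtain ⟨g, rfl⟩ := QuotientGroup.mk'_surjective K v
    exact (QuotientGroup.eq_one_iff g).2 (hle ⟨g, hv, rfl⟩)
  obtain ⟨x', hx'N, hx'ne⟩ : ∃ x' ∈ N, x' ≠ 1 := by
    by_contra hcon
    push Not at hcon
    exact hNne ((eq_bot_iff_forall N).2 hcon)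
  have hx'o : orderOf x' = p := orderOf_eq_prime (hNexp x' hx'N) hx'ne
  obtain ⟨x, rfl⟩ := QuotientGroup.mk'_surjective K x'
  have hxo : orderOf x = p := hY.odd_prime hp hp2 (hx'o ▸ orderOf_map_dvd _ x)
  have hsqQ : ¬ p ^ 2 ∣ Nat.card (↥M ⧸ K) := fun hd =>
    hsq p hp hp2 (hd.trans (card_quotient_dvd_card K))
  have hzN : zpowers (QuotientGroup.mk' K x) = N := by
    refine eq_of_le_of_card_ge (zpowers_le.2 hx'N) ?_
    obtain ⟨n, hn⟩ := IsPGroup.iff_card.1 hNp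
    rw [Nat.card_zpowers, hx'o, hn]
    rcases n with _ | _ | n
    · rw [pow_zero]; exact hp.one_le
    · rw [pow_one]
    · exact absurd ((pow_dvd_pow p (by omega : 2 ≤ n + 2)).trans (hn ▸ N.card_subgroup_dvd_card)) hsqQ
  refine ⟨p, x, hp, hp2, hxo, fun y => ?_, fun y hy => ?_, fun r hr hrd => ?_, hsq p hp hp2⟩
  · have h1 : QuotientGroup.mk' K (y * x * y⁻¹) ∈ zpowers (QuotientGroup.mk' K x) := by
      rw [hzN, map_mul, map_mul, map_inv]
      exact hNn.conj_mem _ hx'N _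
    obtain ⟨k, hk⟩ := mem_powers_iff_mem_zpowers.2 h1
    exact ⟨k, by simpa using hk.symm⟩
  · set C := centralizer ({QuotientGroup.mk' K x} : Set (↥M ⧸ K))
    have hCp : IsPGroup p ↥C := (hY.quotient K).isPGroup_centralizer (by rw [hx'o])
    have hle : zpowers (QuotientGroup.mk' K x) ≤ C := zpowers_le.2 (mem_centralizer_singleton_iff.2 rfl)
    have he : zpowers (QuotientGroup.mk' K x) = C := by
      refine eq_of_le_of_card_ge hle ?_
      obtain ⟨n, hn⟩ := IsPGroup.iff_card.1 hCp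
      rw [Nat.card_zpowers, hx'o, hn]
      rcases n with _ | _ | n
      · rw [pow_zero]; exact hp.one_le
      · rw [pow_one]
      · exact absurd ((pow_dvd_pow p (by omega : 2 ≤ n + 2)).trans (hn ▸ C.card_subgroup_dvd_card)) hsqQ
    have hyC : QuotientGroup.mk' K y ∈ C := mem_centralizer_singleton_iff.2 (by
      rw [← map_mul, ← map_mul]
      exact hy)
    rw [← he] at hyC
    obtain ⟨k, hk⟩ := mem_powers_iff_mem_zpowers.2 hyC
    exact ⟨k, by simpa using hk.symm⟩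
  · by_contra hcon
    push Not at hcon
    obtain ⟨hr2, hrp⟩ := hcon
    haveI := Fact.mk hr
    obtain ⟨y, hy⟩ := exists_prime_orderOf_dvd_card' (G := ↥M) r hrd
    have hy' : orderOf (QuotientGroup.mk' K y) = r := by
      refine ((Nat.dvd_prime hr).1 (hy ▸ orderOf_map_dvd _ y)).resolve_left fun e => ?_
      have hyK : y ∈ K := (QuotientGroup.eq_one_iff y).1 (orderOf_eq_one_iff.1 e)
      obtain ⟨k, hk⟩ := IsPGroup.iff_orderOf.1 hKp ⟨y, hyK⟩
      rw [orderOf_mk, hy] at hk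
      exact hr2 ((Nat.prime_dvd_prime_iff_eq hr Nat.prime_two).1 (hr.dvd_of_dvd_pow (dvd_of_eq hk)))
    obtain ⟨P, hP, hPne, g, hg, hgP⟩ := hY.lift_normalised K hr hr2 (fun e => hrp e.symm) hNp hNne hy'
      (fun v hv => hNn.conj_mem v hv _)
    exact hY.no_group_pq hP hp2 hr Nat.prime_two (fun e => hrp e.symm) hp2 hr2 hPne hg hgP W (omega_sq K) hWne
      (fun x _ => hWn x) (hWn g)

namespace Loc

variable {M R : Subgroup G} [(R.subgroupOf M).Normal] {q : ℕ} {x : ↥M} (L : Loc M R q x) (hR : IsPGroup 2 ↥R)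
include L hR

theorem ord_bar : orderOf (QuotientGroup.mk' (R.subgroupOf M) x) = q := by
  refine ((Nat.dvd_prime L.prime).1 (L.ord ▸ orderOf_map_dvd _ x)).resolve_left fun e => ?_
  have hxK : (x : G) ∈ R := (QuotientGroup.eq_one_iff x).1 (orderOf_eq_one_iff.1 e)
  obtain ⟨k, hk⟩ := IsPGroup.iff_orderOf.1 hR ⟨(x : G), hxK⟩
  rw [orderOf_mk, orderOf_coe, L.ord] at hk
  exact L.odd ((Nat.prime_dvd_prime_iff_eq L.prime Nat.prime_two).1 (L.prime.dvd_of_dvd_pow (dvd_of_eq hk)))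

theorem not_two_dvd_of_mem {T : Subgroup G} (hT : IsPGroup 2 ↥T) {t : ↥M} (ht : (t : G) ∈ T) {k : ℕ}
    (hk : (↑t : ↥M ⧸ R.subgroupOf M) = (↑(x ^ k) : ↥M ⧸ R.subgroupOf M)) : (t : G) ∈ R := by
  obtain ⟨j, hj⟩ := IsPGroup.iff_orderOf.1 hT ⟨(t : G), ht⟩
  rw [orderOf_mk, orderOf_coe] at hj
  have h1 : (QuotientGroup.mk' (R.subgroupOf M) t) ^ q = 1 := by
    show ((↑t : ↥M ⧸ R.subgroupOf M)) ^ q = 1
    rw [hk, QuotientGroup.mk_pow, ← pow_mul, mul_comm k q, pow_mul, ← QuotientGroup.mk_pow]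
    rw [← L.ord, pow_orderOf_eq_one]
    simp
  have h2 : orderOf (QuotientGroup.mk' (R.subgroupOf M) t) = 1 :=
    Nat.eq_one_of_dvd_coprimes (Nat.Coprime.pow_right j ((L.prime.coprime_iff_not_dvd).2 fun hd =>
      L.odd ((Nat.prime_dvd_prime_iff_eq L.prime Nat.prime_two).1 hd)))
      (orderOf_dvd_of_pow_eq_one h1) (hj ▸ orderOf_map_dvd _ t)
  exact (QuotientGroup.eq_one_iff t).1 (orderOf_eq_one_iff.1 h2)

/-- elements of a 2-subgroup outside `R` move `x` modulo `R` -/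
theorem moves {T : Subgroup G} (hT : IsPGroup 2 ↥T) {t : ↥M} (ht : (t : G) ∈ T) (htR : (t : G) ∉ R) :
    (↑(t * x) : ↥M ⧸ R.subgroupOf M) ≠ ↑(x * t) := fun e => by
  obtain ⟨k, hk⟩ := L.cent t e
  exact htR (L.not_two_dvd_of_mem hR hT ht hk)

/-- the action on the kernel modulo `R`, as a character -/
theorem exists_char : ∃ χ : ↥M →* (ZMod q)ˣ, ∀ (T : Subgroup G) (t : ↥M), IsPGroup 2 ↥T → (t : G) ∈ T →
    χ t = 1 → (t : G) ∈ R := by
  classical
  haveI := Fact.mk L.prime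
  set π := QuotientGroup.mk' (R.subgroupOf M)
  have hq := L.ord_bar hR
  let e : ↥M → ℕ := fun t => (L.conj t).choose
  have he : ∀ t : ↥M, π t * π x * (π t)⁻¹ = π x ^ e t := fun t => by
    have := (L.conj t).choose_spec
    rw [← map_inv, ← map_mul, ← map_mul, ← map_pow]
    exact this
  have hinj : ∀ a b : ℕ, π x ^ a = π x ^ b → (a : ZMod q) = b := fun a b h => by
    rw [ZMod.natCast_eq_natCast_iff, ← hq]
    exact pow_eq_pow_iff_modEq.1 h
  let φ : ↥M →* ZMod q :=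
    { toFun := fun t => (e t : ZMod q)
      map_one' := by
        rw [← Nat.cast_one]
        refine hinj _ _ ?_
        rw [← he 1, pow_one]
        simp
      map_mul' := fun s t => by
        rw [← Nat.cast_mul]
        refine hinj _ _ ?_
        rw [← he (s * t), pow_mul, ← he s, conj_pow, ← he t, map_mul]
        group }
  refine ⟨φ.toHomUnits, fun T t hT ht hs => ?_⟩
  have hφ : (e t : ZMod q) = 1 := by
    have := congrArg Units.val hs
    rw [MonoidHom.coe_toHomUnits, Units.val_one] at this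
    exact this
  have hfix : π x ^ e t = π x := by
    rw [← pow_one (π x), ← pow_mul, one_mul]
    refine pow_eq_pow_iff_modEq.2 ?_
    rw [hq, ← ZMod.natCast_eq_natCast_iff, hφ, Nat.cast_one]
  have := he t
  rw [hfix, mul_inv_eq_iff_eq_mul, ← map_mul, ← map_mul] at this
  obtain ⟨k, hk⟩ := L.cent _ this
  exact L.not_two_dvd_of_mem hR hT ht hk

/-- Over `R` a 2-subgroup is cyclic. -/
theorem exists_generator {T : Subgroup G} (hT : IsPGroup 2 ↥T) (hTM : T ≤ M) :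
    ∃ g ∈ T, ∀ t ∈ T, ∃ j : ℕ, t * (g ^ j)⁻¹ ∈ R := by
  haveI := Fact.mk L.prime
  obtain ⟨χ, hχ⟩ := L.exists_char hR
  haveI : IsCyclic (ZMod q)ˣ := ZMod.isCyclic_units_prime L.prime
  set ψ := χ.comp (inclusion hTM)
  obtain ⟨⟨u, g, hu⟩, hgen⟩ := IsCyclic.exists_generator (α := ↥ψ.range)
  refine ⟨g, g.2, fun t ht => ?_⟩
  obtain ⟨j, hj⟩ := mem_powers_iff_mem_zpowers.2 (hgen ⟨ψ ⟨t, ht⟩, ⟨_, rfl⟩⟩)
  refine ⟨j, ?_⟩
  set s : ↥T := ⟨t, ht⟩ * (g ^ j)⁻¹
  have hs : ψ s = 1 := by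
    rw [map_mul, map_inv, map_pow, hu]
    have h3 := congrArg Subtype.val hj
    simp only [SubmonoidClass.coe_pow] at h3
    rw [h3, mul_inv_cancel]
  exact hχ T (inclusion hTM s) hT s.2 hs

/-- Two involutions of a 2-subgroup outside `R` have product in `R`; with `q = 3` any two elements. -/
theorem mul_mem_of {T : Subgroup G} (hT : IsPGroup 2 ↥T) (hTM : T ≤ M) {a b : G} (ha : a ∈ T) (hb : b ∈ T) (haR : a ∉ R)
    (hbR : b ∉ R) (hor : q = 3 ∨ (a * a = 1 ∧ b * b = 1)) : a * b ∈ R := by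
  haveI := Fact.mk L.prime
  obtain ⟨χ, hχ⟩ := L.exists_char hR
  set ψ := χ.comp (inclusion hTM)
  have h1 : ∀ c : ↥T, (c : G) ∉ R → ψ c ≠ 1 := fun c hc e => hc (hχ T (inclusion hTM c) hT c.2 e)
  refine hχ T (inclusion hTM (⟨a, ha⟩ * ⟨b, hb⟩)) hT (T.mul_mem ha hb) ?_
  show ψ (⟨a, ha⟩ * ⟨b, hb⟩) = 1
  rw [map_mul]
  rcases hor with rfl | ⟨ha2, hb2⟩
  · exact three_units _ _ (h1 ⟨a, ha⟩ haR) (h1 ⟨b, hb⟩ hbR)
  · have h2 : ∀ c : ↥T, (c : G) ∉ R → c * c = 1 → ((ψ c : (ZMod q)ˣ) : ZMod q) = -1 := fun c hc hc2 => by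
      have h3 : ((ψ c : (ZMod q)ˣ) : ZMod q) * (ψ c : (ZMod q)ˣ) = 1 := by
        rw [← Units.val_mul, ← map_mul, hc2, map_one, Units.val_one]
      exact (mul_self_eq_one_iff.1 h3).resolve_left fun e => h1 c hc (Units.ext e)
    refine Units.ext ?_
    rw [Units.val_mul, h2 ⟨a, ha⟩ haR (Subtype.ext ha2), h2 ⟨b, hb⟩ hbR (Subtype.ext hb2), Units.val_one]
    ring

/-- An element of a 2-subgroup outside `R` fixes only the identity of a subgroup it shares with its conjugate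
under `x`. -/
theorem fixed_eq_one (h : EP G) {T : Subgroup G} (hT : IsPGroup 2 ↥T) {t : ↥M} (ht : (t : G) ∈ T)
    (htR : (t : G) ∉ R) {v : G} (hv : ∃ k, orderOf v = 2 ^ k) (h1 : Commute v (t : G))
    (h2 : Commute v ((x : G) * t * (x : G)⁻¹)) : v = 1 := by
  haveI := Fact.mk L.prime
  set π := QuotientGroup.mk' (R.subgroupOf M)
  set u : ↥M := x * t * x⁻¹ * t⁻¹
  obtain ⟨k, hk⟩ := L.conj t
  have hu : π u ∈ zpowers (π x) := by
    have e1 : π (t * x⁻¹ * t⁻¹) = (π x ^ k)⁻¹ := by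
      rw [← map_pow, ← map_inv π (x ^ k)]
      have := congrArg Inv.inv hk
      rw [← QuotientGroup.mk_inv, ← QuotientGroup.mk_inv, show (t * x * t⁻¹)⁻¹ = t * x⁻¹ * t⁻¹ by group] at this
      exact this
    rw [show u = x * (t * x⁻¹ * t⁻¹) by simp only [u]; group, map_mul, e1]
    exact mul_mem (mem_zpowers _) (inv_mem (pow_mem (mem_zpowers _) k))
  have hu1 : π u ≠ 1 := fun e => by
    refine L.moves hR hT ht htR ?_
    show π (t * x) = π (x * t)
    rw [show x * t = u * (t * x) by simp only [u]; group, map_mul π u, e, one_mul]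
  have hd : q ∣ orderOf (u : G) := by
    rw [orderOf_coe]
    refine dvd_trans ?_ (orderOf_map_dvd π u)
    have h3 : orderOf (π u) ∣ q := L.ord_bar hR ▸ orderOf_dvd_of_mem_zpowers hu
    rcases (Nat.dvd_prime L.prime).1 h3 with e | e
    · exact absurd (orderOf_eq_one_iff.1 e) hu1
    · rw [e]
  have hcu : Commute v (u : G) := by
    show Commute v ((x : G) * t * (x : G)⁻¹ * (t : G)⁻¹)
    exact h2.mul_right h1.inv_right
  by_contra hv1
  obtain ⟨j, hj⟩ := hv
  rcases j with _ | j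
  · exact hv1 (orderOf_eq_one_iff.1 (by simpa using hj))
  · exact L.odd (h.same_prime hcu.symm L.prime Nat.prime_two hd (hj ▸ dvd_pow_self 2 (by omega)))

end Loc

end Cfsg.Lib.PrimePowerOrders
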