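import Cfsg.Agent.PrimePowerOrders.StrongEmb
import Cfsg.Agent.PrimePowerOrders.Four
import Cfsg.Agent.PrimePowerOrders.Arith

/-!
Groups whose element orders are powers of two or odd primes other than five, with at least three prime
divisors of the order.
-/

set_option autoImplicit false
set_option linter.unusedSectionVars false
set_option linter.style.haveILetI false

namespace Cfsg.Lib.PrimePowerOrders

open Subgroup

universe u v

theorem not_solvable {X : Type*} [Group X] [IsSimpleGroup X] (hna : ¬ IsMulCommutative X) : ¬ Group.IsSolvable X :=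
  fun hs => hna ⟨⟨fun a b => IsSimpleGroup.comm_iff_isSolvable.2 hs a b⟩⟩

/-- The simple case, relative to the smaller simple groups. -/
theorem simple_step {X : Type u} [Group X] [Finite X] (h : EP X) [IsSimpleGroup X] (hna : ¬ IsMulCommutative X)
    (hsmall : SmallSimple.{u} (Nat.card X)) :
    ∃ (F : Type) (_ : Field F) (_ : Fintype F), Fintype.card F = 7 ∧
      Nonempty (X ≃* Matrix.ProjectiveSpecialLinearGroup (Fin 2) F) := by
  have key : ∃ (F : Type) (_ : Field F) (_ : Fintype F),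
      Nonempty (X ≃* Matrix.ProjectiveSpecialLinearGroup (Fin 2) F) := by
    by_cases hno : NoFour X
    · obtain ⟨M, S, q, x, hL⟩ := exists_strong h hna hsmall hno
      exact hL.exists_psl h h.not_five
    · simp only [NoFour, not_forall, Classical.not_not] at hno
      obtain ⟨V, h4, hsq, hC⟩ := hno
      obtain ⟨F, i1, i2, -, hiso⟩ := exists_psl_of_four h hna V h4 hsq hC
      exact ⟨F, i1, i2, hiso⟩
  obtain ⟨F, i1, i2, ⟨e⟩⟩ := key
  refine ⟨F, i1, i2, card_eq_seven (h.of_surjective e.toMonoidHom e.surjective) (fun hs => ?_), ⟨e⟩⟩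
  haveI := hs
  exact not_solvable hna (Group.isSolvable_of_isSolvable_injective (f := e.toMonoidHom) e.injective)

theorem smallSimple : ∀ n, SmallSimple.{u} n := by
  intro n
  induction n with
  | zero => intro X _ _ _ _ _ hlt; omega
  | succ n ih =>
    intro X _ _ hX hsimp hna hlt
    rcases Nat.lt_succ_iff_lt_or_eq.1 hlt with hlt' | heq
    · exact ih X hX hsimp hna hlt'
    haveI := hsimp
    obtain ⟨F, i1, i2, hF, ⟨e⟩⟩ := simple_step hX hna (heq.symm ▸ ih)
    rw [Nat.card_congr e.toEquiv, card_eq hF]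

/-- The simple case. -/
theorem simple_iso {X : Type u} [Group X] [Finite X] (h : EP X) [IsSimpleGroup X] (hna : ¬ IsMulCommutative X) :
    ∃ (F : Type) (_ : Field F) (_ : Fintype F), Fintype.card F = 7 ∧
      Nonempty (X ≃* Matrix.ProjectiveSpecialLinearGroup (Fin 2) F) :=
  simple_step h hna (smallSimple _)

variable {G : Type u} [Group G] [Finite G]

theorem exists_ne_one {K : Subgroup G} (hK : K ≠ ⊥) : ∃ v ∈ K, v ≠ 1 := by
  by_contra hcon
  push Not at hcon
  exact hK ((eq_bot_iff_forall K).2 hcon)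

/-- the normaliser of a subgroup of a normal subgroup conjugate to all its conjugates covers the quotient -/
theorem dvd_card_normalizer {H : Subgroup G} [H.Normal] {p : ℕ} [Fact p.Prime] (S : Sylow p ↥H) {r : ℕ}
    (hr : r ∣ H.index) :
    r ∣ Nat.card ↥(normalizer (((S : Subgroup ↥H).map H.subtype : Subgroup G) : Set G)) := by
  set N := normalizer (((S : Subgroup ↥H).map H.subtype : Subgroup G) : Set G)
  have hsup : N ⊔ H = ⊤ := Sylow.normalizer_sup_eq_top S
  have hsurj : Function.Surjective ((QuotientGroup.mk' H).comp N.subtype) := by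
    rw [← MonoidHom.range_eq_top, MonoidHom.range_comp, range_subtype]
    refine top_le_iff.1 fun v _ => ?_
    obtain ⟨g, rfl⟩ := QuotientGroup.mk'_surjective H v
    have hg : g ∈ N ⊔ H := hsup.ge (mem_top g)
    rw [← SetLike.mem_coe, mul_normal] at hg
    obtain ⟨n, hn, k, hk, rfl⟩ := hg
    refine ⟨n, hn, ?_⟩
    rw [map_mul, show QuotientGroup.mk' H k = 1 from (QuotientGroup.eq_one_iff k).2 hk, mul_one]
  exact hr.trans (by rw [Subgroup.index]; exact card_dvd_of_surjective _ hsurj)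

/-- The solvable groups of restricted element orders have at most two prime divisors. -/
theorem solvable_two_primes (h : EP G) [hs : Group.IsSolvable G] : (Nat.card G).primeFactors.card ≤ 2 := by
  classical
  by_contra hcon
  push Not at hcon
  haveI : Nontrivial G := by
    rw [← Finite.one_lt_card_iff_nontrivial]
    by_contra hle
    have : Nat.card G = 1 := by have := Nat.card_pos (α := G); omega
    rw [this, Nat.primeFactors_one, Finset.card_empty] at hcon
    omega
  obtain ⟨V, -, hVn, hVne, hVmin⟩ := Coprime.exists_minimal_normal (G := G) (K := ⊤) inferInstance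
    (top_ne_bot (α := Subgroup G))
  haveI := hVn
  obtain ⟨hVc, r, hr, hVp, hVexp⟩ := Coprime.minimal_normal_solvable (N := V) inferInstance hVne hVmin
  haveI := hVc
  haveI := Fact.mk hr
  obtain ⟨R, ⟨hRn, hR⟩, hRmax⟩ := Set.exists_max_image {R : Subgroup G | R.Normal ∧ IsPGroup r ↥R}
    (fun R => Nat.card ↥R) (Set.toFinite _) ⟨V, hVn, hVp⟩
  haveI := hRn
  have hRtop : R ≠ ⊤ := by
    intro e
    obtain ⟨k, hk⟩ := IsPGroup.iff_card.1 hR
    rw [e, card_top] at hk
    rw [hk] at hcon
    rcases k with _ | k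
    · simp at hcon
    · rw [Nat.primeFactors_prime_pow (Nat.succ_ne_zero k) hr, Finset.card_singleton] at hcon
      omega
  obtain ⟨P', -, hPn, hPne, hPmin⟩ := Coprime.exists_minimal_normal (G := G ⧸ R) (K := ⊤) inferInstance (by
    intro e
    haveI : Subsingleton (G ⧸ R) := Subgroup.subsingleton_iff.1 (subsingleton_of_bot_eq_top e.symm)
    exact hRtop (top_le_iff.1 fun g _ => (QuotientGroup.eq_one_iff g).1 (Subsingleton.elim _ _)))
  haveI := hPn
  obtain ⟨-, p, hp, hPp, -⟩ := Coprime.minimal_normal_solvable (N := P') inferInstance hPne hPmin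
  haveI := Fact.mk hp
  set H := P'.comap (QuotientGroup.mk' R) with hH
  have hcH : Nat.card ↥H = Nat.card ↥P' * Nat.card ↥R := by
    have h1 := H.card_mul_index
    have h2 := P'.card_mul_index
    have h3 : Nat.card G = Nat.card (G ⧸ R) * Nat.card ↥R := R.card_eq_card_quotient_mul_card_subgroup
    rw [hH, index_comap_of_surjective P' (QuotientGroup.mk'_surjective R), ← hH] at h1
    rw [h3, ← h2, show Nat.card ↥P' * P'.index * Nat.card ↥R = Nat.card ↥P' * Nat.card ↥R * P'.index by ring] at h1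
    exact Nat.eq_of_mul_eq_mul_right (Nat.pos_of_ne_zero index_ne_zero_of_finite) h1
  have hpr : p ≠ r := by
    rintro rfl
    have hHp : IsPGroup p ↥H := hPp.comap_of_ker_isPGroup _ (by rw [QuotientGroup.ker_mk']; exact hR)
    have hle : R ≤ H := fun v hv => by
      show QuotientGroup.mk' R v ∈ P'
      rw [show QuotientGroup.mk' R v = 1 from (QuotientGroup.eq_one_iff v).2 hv]
      exact P'.one_mem
    have heq := eq_of_le_of_card_ge hle (hRmax H ⟨inferInstance, hHp⟩)
    refine hPne ((eq_bot_iff_forall P').2 fun v hv => ?_)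
    obtain ⟨g, rfl⟩ := QuotientGroup.mk'_surjective R v
    exact (QuotientGroup.eq_one_iff g).2 (heq.ge hv)
  obtain ⟨q, hq, hqpr⟩ : ∃ q ∈ (Nat.card G).primeFactors, q ∉ ({p, r} : Finset ℕ) := by
    by_contra hall
    push Not at hall
    have h1 := Finset.card_le_card (show (Nat.card G).primeFactors ⊆ {p, r} from hall)
    have h2 := Finset.card_le_two (a := p) (b := r)
    omega
  simp only [Finset.mem_insert, Finset.mem_singleton, not_or] at hqpr
  obtain ⟨hqp, hqr⟩ := hqpr
  have hqP := Nat.prime_of_mem_primeFactors hq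
  haveI := Fact.mk hqP
  have hqi : q ∣ H.index := by
    have h1 := H.card_mul_index
    refine ((Nat.Prime.dvd_mul hqP).1 (h1.symm ▸ Nat.dvd_of_mem_primeFactors hq)).resolve_left fun hd => ?_
    obtain ⟨a, ha⟩ := IsPGroup.iff_card.1 hPp
    obtain ⟨b, hb⟩ := IsPGroup.iff_card.1 hR
    rw [hcH, ha, hb] at hd
    rcases (Nat.Prime.dvd_mul hqP).1 hd with e | e
    · exact hqp ((Nat.prime_dvd_prime_iff_eq hqP hp).1 (hqP.dvd_of_dvd_pow e))
    · exact hqr ((Nat.prime_dvd_prime_iff_eq hqP hr).1 (hqP.dvd_of_dvd_pow e))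
  obtain ⟨S⟩ : Nonempty (Sylow p ↥H) := inferInstance
  set P := (S : Subgroup ↥H).map H.subtype
  have hP : IsPGroup p ↥P := S.2.map _
  have hSne : P ≠ ⊥ := by
    intro e
    refine S.ne_bot_of_dvd_card ?_ ((map_eq_bot_iff_of_injective _ H.subtype_injective).1 e)
    rw [hcH]
    refine dvd_mul_of_dvd_left ?_ _
    obtain ⟨a, ha⟩ := IsPGroup.iff_card.1 hPp
    rcases a with _ | a
    · exact absurd (eq_bot_of_card_le P' (by rw [ha, pow_zero])) hPne
    · exact ha ▸ dvd_pow_self p (Nat.succ_ne_zero a)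
  obtain ⟨⟨g, hgN⟩, hgo⟩ := exists_prime_orderOf_dvd_card' (G := ↥(normalizer (P : Set G))) q
    (dvd_card_normalizer S hqi)
  rw [orderOf_mk] at hgo
  have hgP : ∀ v ∈ P, g * v * g⁻¹ ∈ P := fun v hv => (mem_normalizer_iff.1 hgN v).1 hv
  have hVn' : ∀ y : G, ∀ w ∈ V, y * w * y⁻¹ ∈ V := fun y w hw => hVn.conj_mem w hw y
  by_cases hp2 : p = 2
  · subst hp2
    obtain ⟨c, hcP, hc, hcc⟩ := exists_central hP hSne
    obtain ⟨w, hw, hw1⟩ := exists_ne_one hVne
    set c' := g * c * g⁻¹
    have hne : c' ∉ zpowers c := by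
      intro hmem
      rcases eq_or_ne c' c with e | e
      · exact hqp (h.same_prime (mul_inv_eq_iff_eq_mul.1 e) hqP hp (by rw [hgo]) (by rw [hc]))
      · obtain ⟨j, hj⟩ := mem_powers_iff_mem_zpowers.2 hmem
        have hj' : c' = c ^ j := hj.symm
        rcases Nat.even_or_odd' j with ⟨i, rfl | rfl⟩
        · rw [pow_mul, ← hc, pow_orderOf_eq_one, one_pow] at hj'
          rw [conj_eq_one_iff.1 hj', orderOf_one] at hc
          omega
        · rw [pow_succ, pow_mul, ← hc, pow_orderOf_eq_one, one_pow, one_mul] at hj'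
          exact e hj'
    exact hw1 (h.no_pp hr hpr hc (by rw [conj_pow, ← hc, pow_orderOf_eq_one, mul_one, mul_inv_cancel]) hne
      (hcc _ (hgP c hcP)) V hVexp (hVn' c) (hVn' c') hw)
  · exact h.no_group_pq hP hp2 hqP hr (fun e => hqp e.symm) hpr hqr hSne hgo hgP V hVexp hVne (fun y _ => hVn' y) (hVn' g)

/-- no nontrivial normal solvable subgroup under the group of order 168 -/
theorem no_solvable_kernel (h : EP G) (V : Subgroup G) [V.Normal] [IsMulCommutative V] {r : ℕ} (hr : r.Prime)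
    (hVp : IsPGroup r ↥V) (hVexp : ∀ w ∈ V, w ^ r = 1) (hVne : V ≠ ⊥) [IsSimpleGroup (G ⧸ V)]
    (hna : ¬ IsMulCommutative (G ⧸ V)) (hc : Nat.card (G ⧸ V) = 168) : False := by
  haveI : Fact (Nat.Prime 2) := ⟨Nat.prime_two⟩
  haveI : Fact (Nat.Prime 7) := ⟨by norm_num⟩
  haveI := Fact.mk hr
  have hVn' : ∀ y : G, ∀ w ∈ V, y * w * y⁻¹ ∈ V := fun y w hw => (inferInstance : V.Normal).conj_mem w hw y
  obtain ⟨P', hP', hne', y', hy', hn'⟩ := hasTwentyOne_of_card (G := G ⧸ V) hc
  obtain ⟨P, hP, hPne, g, hg, hgP⟩ := h.lift_normalised V (p := 7) (q := 3) (by norm_num) (by norm_num)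
    (by norm_num) hP' hne' hy' hn'
  by_cases h7 : r = 7
  on_goal 2 =>
    by_cases h3 : r = 3
    on_goal 2 =>
      exact h.no_group_pq hP (by norm_num) (by norm_num : Nat.Prime 3) hr (by norm_num) (fun e => h7 e.symm)
        (fun e => h3 e.symm) hPne hg hgP V hVexp hVne (fun y _ => hVn' y) (hVn' g)
  all_goals
    have hr2 : r ≠ 2 := by omega
    obtain ⟨S⟩ : Nonempty (Sylow 2 G) := inferInstance
    have hinj : ∀ v ∈ (S : Subgroup G), QuotientGroup.mk' V v = 1 → v = 1 := fun v hv e => by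
      have hvV : v ∈ V := (QuotientGroup.eq_one_iff v).1 e
      obtain ⟨a, ha⟩ := IsPGroup.iff_orderOf.1 S.2 ⟨v, hv⟩
      obtain ⟨b, hb⟩ := IsPGroup.iff_orderOf.1 hVp ⟨v, hvV⟩
      rw [orderOf_mk] at ha hb
      exact orderOf_eq_one_iff.1 (Nat.eq_one_of_dvd_coprimes
        (Nat.Coprime.pow a b ((Nat.coprime_primes Nat.prime_two hr).2 hr2.symm)) (dvd_of_eq ha) (dvd_of_eq hb))
    obtain ⟨w, hw, hw1⟩ := exists_ne_one hVne
    set S' : Sylow 2 (G ⧸ V) := S.mapSurjective (f := QuotientGroup.mk' V) (QuotientGroup.mk'_surjective V)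
    refine Cfsg.Lib.SelfCentNC.exists_two_involutions hna S' fun a b ha hb => ?_
    have hSne : (S : Subgroup G) ≠ ⊥ := fun e => by
      have h1 := S.not_dvd_index
      rw [e, index_bot, card_eq_card_quotient_mul_card_subgroup V, hc] at h1
      exact h1 (dvd_mul_of_dvd_left (by norm_num) _)
    obtain ⟨c, hcS, hco, hcc⟩ := exists_central S.2 hSne
    have key : ∀ a : ↥(S' : Subgroup (G ⧸ V)), orderOf a = 2 → (a : G ⧸ V) = QuotientGroup.mk' V c := by
      rintro ⟨_, a, ha', rfl⟩ hao
      have hao : orderOf (QuotientGroup.mk' V a) = 2 := (orderOf_coe _).trans hao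
      have ha2 : a ^ 2 = 1 := hinj _ (pow_mem ha' 2) (by rw [map_pow, ← hao, pow_orderOf_eq_one])
      by_contra hne
      refine hw1 (h.no_pp hr hr2.symm hco ha2 (fun hmem => ?_) (hcc a ha') V hVexp (hVn' c) (hVn' a) hw)
      obtain ⟨j, hj⟩ := mem_powers_iff_mem_zpowers.2 hmem
      have hj' : a = c ^ j := hj.symm
      rcases Nat.even_or_odd' j with ⟨i, rfl | rfl⟩
      · rw [pow_mul, ← hco, pow_orderOf_eq_one, one_pow] at hj'
        rw [hj', map_one, orderOf_one] at hao
        omega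
      · rw [pow_succ, pow_mul, ← hco, pow_orderOf_eq_one, one_pow, one_mul] at hj'
        exact hne (congrArg (QuotientGroup.mk' V) hj')
    rw [show b = a from Subtype.ext ((key b hb).trans (key a ha).symm)]
    exact mem_zpowers a

/-- The group of order 168 has no proper extension on top. -/
theorem no_extension (h : EP G) (N : Subgroup G) [N.Normal] [IsSimpleGroup ↥N] (hc : Nat.card ↥N = 168)
    (htop : N ≠ ⊤) : False := by
  haveI : Fact (Nat.Prime 7) := ⟨by norm_num⟩
  haveI : Fact (Nat.Prime 3) := ⟨by norm_num⟩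
  haveI : Fact (Nat.Prime 2) := ⟨Nat.prime_two⟩
  obtain ⟨S⟩ : Nonempty (Sylow 7 ↥N) := inferInstance
  set P := (S : Subgroup ↥N).map N.subtype
  have hS : Nat.card ↥(S : Subgroup ↥N) = 7 := by
    rw [S.card_eq_multiplicity, hc, show (168 : ℕ) = 7 ^ 1 * 24 by norm_num,
      Nat.factorization_mul (by norm_num) (by norm_num)]
    simp [Nat.Prime.factorization_self (by norm_num : Nat.Prime 7),
      Nat.factorization_eq_zero_of_not_dvd (show ¬ 7 ∣ 24 by norm_num)]
  have hP : Nat.card ↥P = 7 := by rw [card_map_of_injective N.subtype_injective, hS]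
  obtain ⟨a, haP, ha, hac⟩ := exists_central (S.2.map N.subtype) (p := 7) (P := P) fun e => by
    rw [e, card_bot] at hP; omega
  have hPa : P = zpowers a := (eq_of_le_of_card_ge (zpowers_le.2 haP) (by rw [Nat.card_zpowers, ha, hP])).symm
  set H := normalizer (P : Set G)
  -- the action on the subgroup of order seven
  have hexp : ∀ y : ↥H, ∃ e : ℕ, (y : G) * a * (y : G)⁻¹ = a ^ e := fun y => by
    have h1 := (mem_normalizer_iff.1 y.2 a).1 haP
    rw [hPa] at h1
    obtain ⟨e, he⟩ := mem_powers_iff_mem_zpowers.2 h1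
    exact ⟨e, he.symm⟩
  choose e he using hexp
  have hcast : ∀ i j : ℕ, a ^ i = a ^ j → (i : ZMod 7) = j := fun i j hij => by
    rw [ZMod.natCast_eq_natCast_iff, ← ha]
    exact pow_eq_pow_iff_modEq.1 hij
  let φ : ↥H →* ZMod 7 :=
    { toFun := fun y => (e y : ZMod 7)
      map_one' := by
        rw [← Nat.cast_one]
        refine hcast _ _ ?_
        rw [← he 1, pow_one]
        simp
      map_mul' := fun y z => by
        rw [← Nat.cast_mul]
        refine hcast _ _ ?_
        rw [← he (y * z), pow_mul, ← he y, conj_pow, ← he z, coe_mul]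
        group }
  set ψ := φ.toHomUnits
  have hker : ∀ y : ↥H, ψ y = 1 → Commute (y : G) a := fun y hy => by
    have h1 : (e y : ZMod 7) = (1 : ℕ) := by
      have := congrArg Units.val hy
      rw [MonoidHom.coe_toHomUnits, Units.val_one] at this
      rw [Nat.cast_one]; exact this
    have h2 : a ^ e y = a ^ 1 := by
      refine pow_eq_pow_iff_modEq.2 ?_
      rw [ha, ← ZMod.natCast_eq_natCast_iff, h1]
    rw [pow_one, ← he y, mul_inv_eq_iff_eq_mul] at h2
    exact h2
  have hK : IsPGroup 7 ↥ψ.ker := by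
    rw [IsPGroup.iff_orderOf]
    intro y
    have hy := (h.isPGroup_centralizer (p := 7) (x := a) (by rw [ha]))
    obtain ⟨k, hk⟩ := IsPGroup.iff_orderOf.1 hy
      ⟨((y : ↥H) : G), mem_centralizer_singleton_iff.2 (hker _ y.2).eq⟩
    rw [orderOf_mk] at hk
    exact ⟨k, by rw [← orderOf_coe y, ← orderOf_coe (y : ↥H), hk]⟩
  obtain ⟨b, hb⟩ := IsPGroup.iff_card.1 hK
  have hcard : Nat.card ↥H ∣ 7 ^ b * 6 := by
    rw [← ψ.ker.card_mul_index, hb]
    refine mul_dvd_mul_left _ ?_
    rw [index_ker]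
    have h6 : Nat.card (ZMod 7)ˣ = 6 := by
      rw [Nat.card_eq_fintype_card, ZMod.card_units]
    exact h6 ▸ ψ.range.card_subgroup_dvd_card
  -- an element of order three in it
  obtain ⟨g, hgH, hg, hgN⟩ : ∃ g, g ∈ H ∧ orderOf g = 3 ∧ g ∈ N := by
    obtain ⟨P', hP', hne', y, hy, hn⟩ := hasTwentyOne_of_card (G := ↥N) hc
    obtain ⟨S₁, hS₁⟩ := hP'.exists_le_sylow
    have hS₁c : Nat.card ↥(S₁ : Subgroup ↥N) = 7 := by
      rw [Nat.card_congr (Sylow.equiv S₁ S).toEquiv, hS]
    have hP'eq : P' = (S₁ : Subgroup ↥N) := by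
      refine eq_of_le_of_card_ge hS₁ ?_
      obtain ⟨k, hk⟩ := IsPGroup.iff_card.1 hP'
      rcases k with _ | k
      · exact absurd (eq_bot_of_card_le P' (by omega)) hne'
      · rw [hS₁c, hk]; exact Nat.le_self_pow (Nat.succ_ne_zero k) 7
    obtain ⟨n, hn'⟩ := MulAction.exists_smul_eq ↥N S₁ S
    refine ⟨((n * y * n⁻¹ : ↥N) : G), ?_, ?_, (n * y * n⁻¹).2⟩
    · have hmem : n * y * n⁻¹ ∈ normalizer ((S : Subgroup ↥N) : Set ↥N) := by
        refine mem_nrm fun v hv => ?_
        rw [← hn', Sylow.coe_subgroup_smul] at hv ⊢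
        obtain ⟨w, hw, rfl⟩ := hv
        refine ⟨y * w * y⁻¹, hP'eq ▸ hn w (hP'eq.symm ▸ hw), ?_⟩
        simp [mul_assoc]
      refine mem_nrm ?_
      rintro _ ⟨v, hv, rfl⟩
      exact ⟨_, nrm_conj hmem hv, rfl⟩
    · rw [orderOf_coe, ← MulAut.conj_apply, MulEquiv.orderOf_eq, hy]
  have hψg : ψ ⟨g, hgH⟩ ≠ 1 := fun e => by
    have := h.same_prime (hker _ e) (by norm_num : Nat.Prime 3) (by norm_num : Nat.Prime 7) (by rw [hg]) (by rw [ha])
    omega
  -- no involution
  have h2 : ¬ 2 ∣ Nat.card ↥H := by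
    intro hd
    obtain ⟨i, hi⟩ := exists_prime_orderOf_dvd_card' (G := ↥H) 2 hd
    have hψi : ψ i ≠ 1 := fun e => by
      have := h.same_prime (hker _ e) Nat.prime_two (by norm_num : Nat.Prime 7) (by rw [orderOf_coe, hi]) (by rw [ha])
      omega
    have ho2 : orderOf (ψ i) = 2 := by
      rcases (Nat.dvd_prime Nat.prime_two).1 (hi ▸ orderOf_map_dvd ψ i) with e | e
      · exact absurd (orderOf_eq_one_iff.1 e) hψi
      · exact e
    have ho3 : orderOf (ψ ⟨g, hgH⟩) = 3 := by
      have hd3 := orderOf_map_dvd ψ ⟨g, hgH⟩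
      rw [orderOf_mk, hg] at hd3
      rcases (Nat.dvd_prime Nat.prime_three).1 hd3 with e | e
      · exact absurd (orderOf_eq_one_iff.1 e) hψg
      · exact e
    have h6 : 6 ∣ orderOf (i * ⟨g, hgH⟩) := by
      refine dvd_trans ?_ (orderOf_map_dvd ψ _)
      rw [map_mul, (Commute.all _ _).orderOf_mul_eq_mul_orderOf_of_coprime (by rw [ho2, ho3]; norm_num), ho2, ho3]
    have := (h.subgroup H).odd_prime Nat.prime_three (by norm_num) ((dvd_mul_left 3 2).trans h6)
    rw [this] at h6
    norm_num at h6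
  -- the index is a power of seven
  have hH21 : ∀ r : ℕ, r.Prime → r ∣ N.index → r = 7 := by
    intro r hr hri
    set N' := N.subgroupOf H
    have hi : N'.index = N.index := by
      haveI := Fact.mk hr
      have hsup : H ⊔ N = ⊤ := Sylow.normalizer_sup_eq_top S
      have := relIndex_sup_right H N
      rw [hsup, relIndex_top_right] at this
      exact this.symm
    have hcN' : 3 ∣ Nat.card ↥N' := by
      have hgm : (⟨g, hgH⟩ : ↥H) ∈ N' := hgN
      have := N'.orderOf_dvd_natCard hgm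
      rwa [orderOf_mk, hg] at this
    have hmul := N'.card_mul_index
    rw [hi] at hmul
    have hrH : r ∣ Nat.card ↥H := hmul ▸ dvd_mul_of_dvd_right hri _
    have hr7 : r = 7 ∨ r = 3 ∨ r = 2 := by
      rcases (Nat.Prime.dvd_mul hr).1 (hrH.trans hcard) with e | e
      · exact Or.inl ((Nat.prime_dvd_prime_iff_eq hr (by norm_num)).1 (hr.dvd_of_dvd_pow e))
      · have := Nat.le_of_dvd (by norm_num) e
        interval_cases r <;> simp_all (config := { decide := true })
    rcases hr7 with rfl | rfl | rfl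
    · rfl
    · exfalso
      have h9 : 3 * 3 ∣ 7 ^ b * 6 := (mul_dvd_mul hcN' hri).trans (hmul ▸ hcard)
      have h93 : (9 : ℕ) ∣ 6 := (Nat.Coprime.pow_right b (by norm_num : Nat.Coprime 9 7)).dvd_of_dvd_mul_left h9
      norm_num at h93
    · exact absurd hrH h2
  -- two subgroups of order seven centralised together
  have hKc : 49 ≤ Nat.card ↥ψ.ker := by
    obtain ⟨r, hr, hrd⟩ := Nat.exists_prime_and_dvd (fun e => htop (index_eq_one.1 e) : N.index ≠ 1)
    obtain rfl := hH21 r hr hrd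
    have hP' : P.subgroupOf H ≤ N.subgroupOf H := fun v hv => map_subtype_le (S : Subgroup ↥N) hv
    have h7N : 7 ∣ Nat.card ↥(N.subgroupOf H) := by
      refine dvd_trans ?_ (card_dvd_of_le hP')
      rw [Nat.card_congr (subgroupOfEquivOfLe le_normalizer).toEquiv, hP]
    have hi : (N.subgroupOf H).index = N.index := by
      have hsup : H ⊔ N = ⊤ := Sylow.normalizer_sup_eq_top S
      have := relIndex_sup_right H N
      rw [hsup, relIndex_top_right] at this
      exact this.symm
    have h49 : 7 * 7 ∣ Nat.card ↥H := by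
      rw [← (N.subgroupOf H).card_mul_index, hi]
      exact mul_dvd_mul h7N hrd
    have h49' : 49 ∣ 7 ^ b := (by norm_num : Nat.Coprime 49 6).dvd_of_dvd_mul_right (h49.trans hcard)
    rw [hb]
    exact Nat.le_of_dvd (pow_pos (by norm_num) b) h49'
  obtain ⟨S₂, hS₂⟩ : ∃ S₂ : Sylow 7 ↥N, S₂ ≠ S := by
    by_contra hcon
    push Not at hcon
    haveI : Subsingleton (Sylow 7 ↥N) := ⟨fun A B => (hcon A).trans (hcon B).symm⟩
    haveI : (S : Subgroup ↥N).Normal := S.normal_of_subsingleton
    rcases IsSimpleGroup.eq_bot_or_eq_top_of_normal (S : Subgroup ↥N) inferInstance with e | e <;> rw [e] at hS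
    · rw [card_bot] at hS; omega
    · rw [card_top, hc] at hS; omega
  have hlt : Nat.card (Sylow 7 ↥N) < Nat.card ↥ψ.ker := by
    have h1 := S.card_dvd_index
    have h2 := (S : Subgroup ↥N).card_mul_index
    rw [hS, hc] at h2
    have h3 := Nat.le_of_dvd (by omega) h1
    omega
  obtain ⟨t, t', htt, hne⟩ : ∃ t t' : ↥ψ.ker, (MulAut.conjNormal ((t : ↥H) : G) : MulAut ↥N) • S₂ = (MulAut.conjNormal ((t' : ↥H) : G) : MulAut ↥N) • S₂ ∧ t ≠ t' := by
    by_contra hcon
    push Not at hcon
    exact absurd (Nat.card_le_card_of_injective (fun t : ↥ψ.ker => (MulAut.conjNormal ((t : ↥H) : G) : MulAut ↥N) • S₂) fun t t' e => hcon t t' e)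
      (not_le.2 hlt)
  set z : G := ((t : ↥H) : G)⁻¹ * ((t' : ↥H) : G)
  have hzS : (MulAut.conjNormal z : MulAut ↥N) • S₂ = S₂ := by rw [map_mul, map_inv, mul_smul, ← htt, inv_smul_smul]
  have hza : Commute z a := (hker _ t.2).inv_left.mul_left (hker _ t'.2)
  have hz1 : z ≠ 1 := fun e => hne (Subtype.ext (Subtype.ext (inv_mul_eq_one.1 e)))
  have hz7 : 7 ∣ orderOf z := by
    obtain ⟨k, hk⟩ := IsPGroup.iff_orderOf.1 (h.isPGroup_centralizer (p := 7) (x := a) (by rw [ha]))
      ⟨z, mem_centralizer_singleton_iff.2 hza.eq⟩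
    rw [orderOf_mk] at hk
    rcases k with _ | k
    · exact absurd (orderOf_eq_one_iff.1 (by simpa using hk)) hz1
    · exact hk ▸ dvd_pow_self 7 (Nat.succ_ne_zero k)
  have hzo : orderOf z = 7 := h.odd_prime (by norm_num) (by norm_num) hz7
  set P₂ := (S₂ : Subgroup ↥N).map N.subtype
  have hzP₂ : ∀ v ∈ P₂, z * v * z⁻¹ ∈ P₂ := by
    rintro _ ⟨v, hv, rfl⟩
    refine ⟨MulAut.conjNormal z v, ?_, MulAut.conjNormal_apply z v⟩
    have h1 : MulAut.conjNormal z v ∈ (((MulAut.conjNormal z : MulAut ↥N) • S₂ : Sylow 7 ↥N) : Subgroup ↥N) := ⟨v, hv, rfl⟩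
    rwa [hzS] at h1
  have hP₂ : Nat.card ↥P₂ = 7 := by
    rw [card_map_of_injective N.subtype_injective, Nat.card_congr (Sylow.equiv S₂ S).toEquiv, hS]
  obtain ⟨a₂, ha₂P, ha₂, -⟩ := exists_central (S₂.2.map N.subtype) (p := 7) (P := P₂) fun e => by
    rw [e, card_bot] at hP₂; omega
  have hza₂ : Commute z a₂ := by
    have hP₂a : P₂ = zpowers a₂ := (eq_of_le_of_card_ge (zpowers_le.2 ha₂P) (by rw [Nat.card_zpowers, ha₂, hP₂])).symm
    obtain ⟨k, hk⟩ := mem_powers_iff_mem_zpowers.2 (hP₂a ▸ hzP₂ a₂ ha₂P)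
    have hk' : a₂ ^ k = z * a₂ * z⁻¹ := hk
    have hj : ∀ j : ℕ, z ^ j * a₂ * (z ^ j)⁻¹ = a₂ ^ (k ^ j) := by
      intro j
      induction j with
      | zero => simp
      | succ j ih =>
        rw [show z ^ (j + 1) * a₂ * (z ^ (j + 1))⁻¹ = z * (z ^ j * a₂ * (z ^ j)⁻¹) * z⁻¹ by rw [pow_succ']; group,
          ih, ← conj_pow, ← hk', ← pow_mul, pow_succ']
    have h7 := hj 7
    rw [← hzo, pow_orderOf_eq_one, one_mul, inv_one, mul_one, hzo] at h7
    have h7' : a₂ ^ 1 = a₂ ^ (k ^ 7) := by rw [pow_one]; exact h7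
    have hm : ((k : ZMod 7)) ^ 7 = 1 := by
      have h8 := pow_eq_pow_iff_modEq.1 h7'
      rw [ha₂, ← ZMod.natCast_eq_natCast_iff, Nat.cast_pow, Nat.cast_one] at h8
      exact h8.symm
    rw [ZMod.pow_card] at hm
    have h9 : a₂ ^ k = a₂ := by
      conv_rhs => rw [← pow_one a₂]
      refine pow_eq_pow_iff_modEq.2 ?_
      rw [ha₂, ← ZMod.natCast_eq_natCast_iff, hm, Nat.cast_one]
    rw [h9, eq_mul_inv_iff_mul_eq] at hk'
    exact hk'.symm
  -- the centraliser meets the subgroup in a group with two Sylow subgroups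
  set D := centralizer ({z} : Set G)
  have hD : IsPGroup 7 ↥D := h.isPGroup_centralizer (by rw [hzo])
  have hD' : IsPGroup 7 ↥(D.subgroupOf N) := hD.comap_of_injective N.subtype N.subtype_injective
  have hmemD : ∀ (T : Sylow 7 ↥N) (c : G), (T : Subgroup ↥N).map N.subtype = zpowers c → Commute z c →
      (T : Subgroup ↥N) ≤ D.subgroupOf N := by
    intro T c hT hcz v hv
    have hvT : (v : G) ∈ zpowers c := hT.le ⟨v, hv, rfl⟩
    exact (zpowers_le.2 (mem_centralizer_singleton_iff.2 hcz.eq.symm)) hvT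
  have e₁ := S.is_maximal' hD' (hmemD S a hPa hza)
  have e₂ := S₂.is_maximal' hD' (hmemD S₂ a₂
    (eq_of_le_of_card_ge (zpowers_le.2 ha₂P) (by rw [Nat.card_zpowers, ha₂, hP₂])).symm hza₂)
  exact hS₂ (Sylow.ext (e₂.symm.trans e₁))

/-- The nonsolvable groups of restricted element orders. -/
theorem nonsolvable_iso : ∀ (m : ℕ) (X : Type u) [Group X] [Finite X], Nat.card X = m → EP X →
    ¬ Group.IsSolvable X → IsSimpleGroup X ∧ ¬ IsMulCommutative X := by
  intro m
  induction m using Nat.strong_induction_on with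
  | _ m ih =>
    intro X _ _ hm h hns
    haveI : Nontrivial X := by
      by_contra hnt
      rw [not_nontrivial_iff_subsingleton] at hnt
      exact hns (by haveI := hnt; infer_instance)
    have hnc : ¬ IsMulCommutative X := fun hc => hns (by
      haveI := hc
      letI : CommGroup X := { (inferInstance : Group X) with mul_comm := fun a b => mul_comm' a b }
      infer_instance)
    refine ⟨⟨fun K hK => ?_⟩, hnc⟩
    by_contra hcon
    push Not at hcon
    obtain ⟨hKb, hKt⟩ := hcon
    haveI := hK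
    obtain ⟨N, hNK, hN, hNne, hNmin⟩ := Coprime.exists_minimal_normal hK hKb
    haveI := hN
    have hNt : N ≠ ⊤ := fun e => hKt (top_le_iff.1 (e ▸ hNK))
    have hcN : Nat.card ↥N < m := hm ▸ lt_of_le_of_ne N.card_le_card_group fun e => hNt (eq_top_of_card_eq N e)
    have hcQ : Nat.card (X ⧸ N) < m := by
      have h1 : Nat.card X = Nat.card (X ⧸ N) * Nat.card ↥N := N.card_eq_card_quotient_mul_card_subgroup
      have h2 : 1 < Nat.card ↥N := by
        by_contra hle
        exact hNne (eq_bot_of_card_le N (by omega))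
      have h3 : 0 < Nat.card (X ⧸ N) := Nat.card_pos
      nlinarith
    by_cases hNs : Group.IsSolvable ↥N
    · have hQs : ¬ Group.IsSolvable (X ⧸ N) := fun hs => hns (by
        haveI := hNs
        haveI := hs
        exact Group.isSolvable_of_ker_le_range N.subtype (QuotientGroup.mk' N)
          (by rw [QuotientGroup.ker_mk', range_subtype]))
      obtain ⟨hsimp, hna⟩ := ih _ hcQ (X ⧸ N) rfl (h.quotient N) hQs
      haveI := hsimp
      obtain ⟨hNc, r, hr, hNp, hNexp⟩ := Coprime.minimal_normal_solvable hNs hNne hNmin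
      haveI := hNc
      exact no_solvable_kernel h N hr hNp hNexp hNne hna
        (smallSimple _ (X ⧸ N) (h.quotient N) hsimp hna (Nat.lt_succ_self _))
    · obtain ⟨hsimp, hna⟩ := ih _ hcN ↥N rfl (h.subgroup N) hNs
      haveI := hsimp
      exact no_extension h N (smallSimple _ ↥N (h.subgroup N) hsimp hna (Nat.lt_succ_self _)) hNt

/-- The main theorem. -/
theorem main (h : EP G) {F : Type v} [Field F] [Fintype F] (hF : Fintype.card F = 7)
    (h3 : 3 ≤ (Nat.card G).primeFactors.card) :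
    Nonempty (G ≃* Matrix.ProjectiveSpecialLinearGroup (Fin 2) F) := by
  have hns : ¬ Group.IsSolvable G := fun hs => by
    have := solvable_two_primes h (hs := hs)
    omega
  obtain ⟨hsimp, hna⟩ := nonsolvable_iso _ G rfl h hns
  haveI := hsimp
  obtain ⟨K, i1, i2, hK, ⟨e⟩⟩ := simple_iso h hna
  obtain ⟨e'⟩ := psl_congr (F := K) (K := F) (hK.trans hF.symm)
  exact ⟨e.trans e'⟩

end Cfsg.Lib.PrimePowerOrders
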